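import Cfsg.Agent.H393.Iso.Baby

/-!
# The Baby Monster: the primes not adjacent to 2 (after helper393) (helper547)
-/

set_option autoImplicit false
set_option maxRecDepth 100000

open Subgroup

namespace Cfsg.Agent.H547.PP.FarBaby

open Cfsg.Agent.H393.Iso

open Cfsg Cfsg.Lie Cfsg.Agent.Bimonster Cfsg.Agent.BabyU Cfsg.Agent.TwoESix.Cover
open Cfsg.Agent.MonsterX.KSide Cfsg.Agent.MonsterX.KLift Cfsg.Agent.MonsterX.KModel
open Cfsg.Agent.MonsterX.Model Cfsg.Agent.MonsterX.MainPack Cfsg.Agent.MonsterX.MainSimple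
open Cfsg.Agent.MonsterX.MainBasic Cfsg.Agent.MonsterU.Assembly Cfsg.Agent.MonsterN Cfsg.Agent.MonsterN.Lit
open Cfsg.Agent.MonsterN.LitInst Cfsg.Agent.MonsterU.Lam2 Cfsg.Agent.MonsterU.TwoCls
open Cfsg.Agent.BabyComp Cfsg.Agent.BabyComp.Main Cfsg.Agent.BabyComp.BaseTwo Cfsg.Agent.R01.Lifts

/-- helper393's proof with a variable prime -/
theorem na_b {p : ℕ} (hp : p.Prime) (hp2 : p ≠ 2) (hpa : ¬ p ∣ 306129918735099415756800)
    (hpb : ¬ p ∣ 2 ^ 25 * 4157776806543360000) : NA p Spor.BabyMonster := by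
  refine CTwoTab.BInst.elim ?_
  intro K _ _ hK hF _ _ _ _ q y h π f₁ f₂ f₃ f₄ M₁' hq h10 DK Fc hz hcz hcd hL hc5 big hq5 hcard Bs' hr
  have hodd : Odd p := hp.odd_of_ne_two hp2
  obtain ⟨M₁, B2⟩ := BaseTwo.exists_base2 hq5
  have Bs : Base (q (y 5)) M₁ := B2.toBase
  have hnt : ∀ x d : Spor.BabyMonster, orderOf x = p → IsConj (q (y 5)) d → x * d = d * x → False :=
    fun x d hx hd hxd => false_of_isConj (by rwa [hcard]) hx hd hxd
  have hcz' := card_cz CTwoTab.BInst.all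
  rw [← hz] at hcz'
  have hnz := fun (x w : _) => false_of_isConj (p := p) (by rwa [hcz']) (x := x) (d := w)
  -- the involutions of `M₁`
  have key : ∀ x u : Spor.BabyMonster, orderOf x = p → u * u = 1 → u ≠ 1 → x * u = u * x →
      (∃ h : Spor.BabyMonster, h⁻¹ * u * h ∈ M₁) → False := by
    rintro x u hx huu hu1 hxu ⟨g, hg⟩
    obtain ⟨k, hk, hqk⟩ := M_le hq h10 big Bs _ hg
    have hkk : k * k = 1 := by
      refine lift_sq (Cfsg.Agent.TwoESix.LeviG.rootFacts hK hF) (KeyInst.extra hF) (Cfsg.Agent.TwoESix.RootsInst.roots K hF)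
        hq h10 DK hk ?_
      rw [hqk]
      calc g⁻¹ * u * g * (g⁻¹ * u * g) = g⁻¹ * (u * u) * g := by group
        _ = 1 := by rw [huu]; group
    have hqk1 : q k ≠ 1 := by
      intro e
      apply hu1
      rw [hqk] at e
      calc u = g * (g⁻¹ * u * g) * g⁻¹ := by group
        _ = 1 := by rw [e]; group
    have hk1 : k ≠ 1 := fun e => hqk1 (by rw [e, map_one])
    have hkτ : k ≠ tb _ _ := fun e => hqk1 (by rw [e, hq.mapz])
    obtain ⟨b, hb, hbp⟩ := exists_lift hq hp hp2 ((orderOf_conj' g x).trans hx)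
    have hbk : b * k = k * b := by
      refine lift_comm hq hp hp2 hbp ?_
      rw [hb, hqk]
      calc g⁻¹ * x * g * (g⁻¹ * u * g) = g⁻¹ * (x * u) * g := by group
        _ = g⁻¹ * (u * x) * g := by rw [hxu]
        _ = _ := by group
    have hbt : b * tb _ _ = tb _ _ * b := hq.comm b
    have hbO : orderOf ((BB _ _).subtype b) = p := by
      rw [← hbp]
      exact orderOf_injective _ (Subgroup.subtype_injective _) b
    have hcomm : ∀ w : BB Cfsg.Agent.MonsterX.KDone.K Cfsg.Agent.MonsterX.KLinkInst.x₀, b * w = w * b →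
        (BB _ _).subtype b * (BB _ _).subtype w = (BB _ _).subtype w * (BB _ _).subtype b := fun w hw => by
      rw [← map_mul, hw, map_mul]
    rcases Fc.classes k hkk hk1 hkτ with h1 | h1 | h1 | h1
    · exact hnt (q b) (q k) (by rw [hb]; exact (orderOf_conj' g x).trans hx) (q.map_isConj (hc5.symm.trans h1))
        (by rw [← map_mul, hbk, map_mul])
    · refine hnz _ _ hbO (hcz.trans ((BB _ _).subtype.map_isConj (FusionType.conj_mul_t Fc.cen h1)))
        (hcomm _ ?_)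
      rw [← mul_assoc, hbt, mul_assoc, hbk, ← mul_assoc]
    · exact hnz _ _ hbO (hcz.trans ((BB _ _).subtype.map_isConj h1)) (hcomm _ hbk)
    · exact hnz _ _ hbO (hcd.trans ((BB _ _).subtype.map_isConj h1)) (hcomm _ hbk)
  intro x u hx hu hxu
  have huu := sq_of_two hu
  have hu1 := ne_one_of_two hu
  rcases Bs.classes u huu hu1 with hg | ⟨d, hd, hc, hud⟩
  · exact key x u hx huu hu1 hxu hg
  · obtain ⟨g, rfl⟩ := isConj_iff.1 hd
    have htt : q (y 5) * q (y 5) = 1 := by rw [← map_mul, h.sq 5 (by norm_num) (by norm_num), map_one]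
    have htM : q (y 5) ∈ M₁ := by
      rw [BaseTwo.Base.eq_map hq h10 big Bs]
      exact ⟨y 5, (mem_KK' hq h10).2 (by group), rfl⟩
    have hcc := hc
    -- `e = g⁻¹ * u * g * t`
    have he1 : IsConj (q (y 5)) (g⁻¹ * u * g * q (y 5)) := by
      refine hud.trans (isConj_iff.2 ⟨g⁻¹, ?_⟩)
      group
    have hut : g⁻¹ * u * g * q (y 5) = q (y 5) * (g⁻¹ * u * g) := by
      calc g⁻¹ * u * g * q (y 5) = g⁻¹ * (u * (g * q (y 5) * g⁻¹)) * g := by group
        _ = g⁻¹ * ((g * q (y 5) * g⁻¹) * u) * g := by rw [hc]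
        _ = _ := by group
    have he2 : q (y 5) * (g⁻¹ * u * g * q (y 5)) = g⁻¹ * u * g := by
      rw [hut, ← mul_assoc, htt, one_mul]
    have he3 : g⁻¹ * u * g * q (y 5) * q (y 5) = g⁻¹ * u * g := by
      rw [mul_assoc, htt, mul_one]
    by_cases heM : g⁻¹ * u * g * q (y 5) ∈ M₁
    · refine key x u hx huu hu1 hxu ⟨g, ?_⟩
      rw [← he3]
      exact M₁.mul_mem heM htM
    · have h1 := B2.comm_of_odd (g⁻¹ * u * g * q (y 5)) (g⁻¹ * x * g) he1 (by rw [he2, he3]) heM ?_ ?_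
      · exact hnt _ _ ((orderOf_conj' g x).trans hx) (IsConj.refl _) h1
      · rw [orderOf_conj', hx]; exact hodd
      · rw [he2]
        calc g⁻¹ * x * g * (g⁻¹ * u * g) = g⁻¹ * (x * u) * g := by group
          _ = g⁻¹ * (u * x) * g := by rw [hxu]
          _ = _ := by group

end Cfsg.Agent.H547.PP.FarBaby
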