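import Cfsg.Agent.H547.PP.Struct
import Cfsg.Agent.H547.SelfCent.Base
import Cfsg.Agent.OrdDiv.Main

/-!
# Subgroups of prime power index: the numeric engine (helper547)

`no_idx` : `G` finite of order `n`, `x` of prime order `r ∥ n` with `|C(x)| = r`; if `chkAll n l r O` then no subgroup
of `G` has index `p ^ k` with `p` prime and `k ≥ 2`. `O` : the orders of the known simple groups divisible by `r` and
dividing `n`.
-/

set_option autoImplicit false

namespace Cfsg.Agent.H547.PP

open Subgroup Cfsg.Agent.H702.TF Cfsg.Agent.OrdDiv Cfsg.Agent.H547.SelfCent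

universe u

/-! ### the check -/

/-- some `s`-part of `w` is not `1` modulo `r` -/
def dead (l : List (ℕ × ℕ)) (r w : ℕ) : Bool :=
  l.any fun x => (List.range (x.2 + 1)).any fun a =>
    Nat.beq (w % x.1 ^ a) 0 && (!(Nat.beq (w % x.1 ^ (a + 1)) 0) && !(Nat.beq (x.1 ^ a % r) 1))

/-- the check for one index `i` -/
def chkI (n : ℕ) (l : List (ℕ × ℕ)) (r i : ℕ) (O : List ℕ) : Bool :=
  !(Nat.beq ((n / r) % r % ((n / i / r) % r)) 0) ||
    ((!(Nat.beq (n / i % (r * ((n / i / r) % r))) 0) || dead l r (n / i / (r * ((n / i / r) % r)))) &&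
      O.all fun o => (List.range ((n / i / r) % r + 1)).all fun d => Nat.beq d 0 || (!(Nat.beq ((n / i / r) % r % d) 0) ||
        (!(Nat.beq (n / i % (o * d)) 0) || dead l r (n / i / (o * d)))))

/-- the check for all indices -/
def chkAll (n : ℕ) (l : List (ℕ × ℕ)) (r : ℕ) (O : List ℕ) : Bool :=
  l.all fun x => Nat.beq x.1 r || (List.range (x.2 + 1)).all fun k => Nat.ble k 1 || chkI n l r (x.1 ^ k) O

/-- the list `O` is complete -/
def chkO (n : ℕ) (l : List (ℕ × ℕ)) (r : ℕ) (O : List ℕ) : Bool :=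
  (cands l n).all fun g => !(Nat.beq (ordN g % r) 0) || O.any fun o => Nat.beq (ordN g) o

/-! ### soundness -/

theorem not_dead {l : List (ℕ × ℕ)} {n r w : ℕ} (hv : valid l n = true) (hr : 1 < r) (hw : 0 < w)
    (h : ∀ s, s.Prime → r ∣ s ^ w.factorization s - 1) : dead l r w = false := by
  rw [Bool.eq_false_iff]
  intro hd
  unfold dead at hd
  rw [List.any_eq_true] at hd
  obtain ⟨x, hx, hd⟩ := hd
  rw [List.any_eq_true] at hd
  obtain ⟨a, -, hd⟩ := hd
  rw [Bool.and_eq_true, Bool.and_eq_true, Bool.not_eq_true', Bool.not_eq_true'] at hd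
  obtain ⟨h1, h2, h3⟩ := hd
  have hp := valid_prime hv x hx
  have h1' : x.1 ^ a ∣ w := Nat.dvd_of_mod_eq_zero (Nat.eq_of_beq_eq_true h1)
  have h2' : ¬ x.1 ^ (a + 1) ∣ w := by
    intro h4
    rw [Nat.mod_eq_zero_of_dvd h4] at h2
    exact absurd h2 (by decide)
  have h4 : w.factorization x.1 = a := by
    have e1 := (hp.pow_dvd_iff_le_factorization hw.ne').1 h1'
    have e2 : ¬ (a + 1 ≤ w.factorization x.1) := fun e => h2' ((hp.pow_dvd_iff_le_factorization hw.ne').2 e)
    omega
  have h5 := h x.1 hp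
  rw [h4] at h5
  have h6 : x.1 ^ a % r = 1 := by
    have h7 : 1 ≤ x.1 ^ a := Nat.one_le_pow _ _ hp.pos
    have h8 := (Nat.modEq_iff_dvd' h7).2 h5
    have h9 : 1 % r = x.1 ^ a % r := h8
    rw [← h9]
    exact Nat.mod_eq_of_lt hr
  rw [h6] at h3
  exact absurd h3 (by decide)

/-- the centralizer of a nontrivial power -/
theorem cent_pow {X : Type*} [Group X] {r : ℕ} (hr : r.Prime) {y z : X} (hy : orderOf y = r) (hz : z ∈ zpowers y)
    (hz1 : z ≠ 1) : centralizer ({z} : Set X) = centralizer ({y} : Set X) := by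
  have hzo : orderOf z = r := by
    have h1 : orderOf z ∣ r := by
      have h2 := Subgroup.orderOf_dvd_natCard (zpowers y) hz
      rwa [Nat.card_zpowers, hy] at h2
    rcases (Nat.dvd_prime hr).1 h1 with h2 | h2
    · exact absurd (orderOf_eq_one_iff.1 h2) hz1
    · exact h2
  have hfin : Finite (zpowers y) := by
    apply Nat.finite_of_card_ne_zero
    rw [Nat.card_zpowers, hy]
    exact hr.ne_zero
  have h3 : zpowers z = zpowers y := by
    apply Subgroup.eq_of_le_of_card_ge
    · rwa [zpowers_le]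
    · rw [Nat.card_zpowers, Nat.card_zpowers, hzo, hy]
  have e1 : ∀ w : X, centralizer ({w} : Set X) = centralizer ((zpowers w : Subgroup X) : Set X) := by
    intro w
    rw [zpowers_eq_closure, centralizer_closure]
  rw [e1, e1, h3]

theorem iso_of {X : Type*} [Group X] [Finite X] {r : ℕ} (hr : r.Prime) (hr2 : r ≠ 2) (hsq : ¬ r * r ∣ Nat.card X)
    {y : X} (hy : orderOf y = r) (hc : Nat.card (centralizer ({y} : Set X)) = r) : Iso (zpowers y) where
  cyc := inferInstance
  odd := by rw [Nat.card_zpowers, hy]; exact hr.odd_of_ne_two hr2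
  one_lt := by rw [Nat.card_zpowers, hy]; exact hr.one_lt
  cop := by
    rw [Nat.card_zpowers, hy]
    refine (Nat.Prime.coprime_iff_not_dvd hr).2 fun h => hsq ?_
    have h1 := card_mul_index (zpowers y)
    rw [Nat.card_zpowers, hy] at h1
    rw [← h1]
    exact Nat.mul_dvd_mul_left _ h
  cent := by
    intro z hz hz1 g hg
    have h1 : g ∈ centralizer ({y} : Set X) := by
      rw [← cent_pow hr hy hz hz1, mem_centralizer_singleton_iff]
      exact hg
    have h2 : zpowers y = centralizer ({y} : Set X) := by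
      apply Subgroup.eq_of_le_of_card_ge
      · rw [zpowers_le, mem_centralizer_singleton_iff]
      · rw [hc, Nat.card_zpowers, hy]
    rwa [h2]

/-- the order of the normalizer -/
theorem norm_mod {X : Type*} [Group X] [Finite X] {r e : ℕ} (hr : r.Prime) (hsq : ¬ r * r ∣ Nat.card X)
    {y : X} (hy : orderOf y = r) (hc : Nat.card (centralizer ({y} : Set X)) = r)
    (he : Nat.card (normalizer (zpowers y : Set X)) = r * e) : Nat.card X / r % r = e := by
  obtain ⟨e', h1, h2, h3, h4, -⟩ := arith hr hy hsq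
  rw [hc] at h2 h3 h4
  rw [h4] at he
  have h5 : e' = e := Nat.eq_of_mul_eq_mul_left hr.pos he
  subst h5
  have he0 : 0 < e' := Nat.pos_of_dvd_of_pos h1 (Nat.sub_pos_of_lt hr.one_lt)
  have hle : e' < r := by
    have := Nat.le_of_dvd (Nat.sub_pos_of_lt hr.one_lt) h1
    have := hr.one_lt
    omega
  obtain ⟨c, hcc⟩ := h2
  have h6 : Nat.card X / (r * e') = c := by
    rw [hcc]
    exact Nat.mul_div_cancel_left _ (Nat.mul_pos hr.pos he0)
  rw [h6] at h3
  have h7 : Nat.card X / r = e' * c := by
    rw [hcc, mul_assoc]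
    exact Nat.mul_div_cancel_left _ hr.pos
  rw [h7, Nat.mul_mod, h3, Nat.mod_eq_of_lt hr.one_lt, mul_one, Nat.mod_mod, Nat.mod_eq_of_lt hle]

theorem normalizer_map_le {X : Type*} [Group X] {H : Subgroup X} (y : H) :
    (normalizer (zpowers y : Set H)).map H.subtype ≤ normalizer (zpowers (y : X) : Set X) := by
  have h1 : (zpowers (y : X) : Subgroup X) = (zpowers y).map H.subtype := by
    rw [MonoidHom.map_zpowers]
    rfl
  rw [h1]
  exact le_normalizer_map H.subtype

/-- **the engine** -/
theorem no_idx (T : OrderTable.{u})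
    (hS : ∀ (X : Type u) [Group X] [Finite X] [IsSimpleGroup X], Cfsg.IsKnownSimple' X)
    {G : Type u} [Group G] [Finite G] {r n : ℕ} (hr : r.Prime) (hr2 : r ≠ 2) (hn : Nat.card G = n)
    (hsq : ¬ r * r ∣ n) {l : List (ℕ × ℕ)} (hv : valid l n = true) {x : G} (hx : orderOf x = r)
    (hC : Nat.card (centralizer ({x} : Set G)) = r) {O : List ℕ} (hO : chkO n l r O = true)
    (hchk : chkAll n l r O = true) {p k : ℕ} (hp : p.Prime) (hk : 2 ≤ k) (H : Subgroup G) (hH : H.index = p ^ k) :
    False := by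
  classical
  have hrf : Fact r.Prime := ⟨hr⟩
  subst hn
  have hcH := card_mul_index H
  rw [hH] at hcH
  have hrG : r ∣ Nat.card G := by rw [← hx]; exact orderOf_dvd_natCard x
  have hrp : p ≠ r := by
    rintro rfl
    apply hsq
    rw [← hcH]
    refine Dvd.dvd.mul_left ?_ _
    rw [← pow_two]
    exact pow_dvd_pow p hk
  have hrH : r ∣ Nat.card H := by
    rw [← hcH] at hrG
    rcases (Nat.Prime.dvd_mul hr).1 hrG with h | h
    · exact h
    · exact absurd ((Nat.prime_dvd_prime_iff_eq hr hp).1 (hr.dvd_of_dvd_pow h)).symm hrp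
  obtain ⟨y, hy⟩ := exists_prime_orderOf_dvd_card' (G := H) r hrH
  have hyG : orderOf (y : G) = r := by rw [orderOf_coe, hy]
  have hCG : Nat.card (centralizer ({(y : G)} : Set G)) = r := by
    rw [card_cent_eq hr hsq hyG hx, hC]
  have hsqH : ¬ r * r ∣ Nat.card H := fun h => hsq (h.trans (card_subgroup_dvd_card H))
  have hCH : Nat.card (centralizer ({y} : Set H)) = r := by
    apply le_antisymm
    · have h1 : (centralizer ({y} : Set H)).map H.subtype ≤ centralizer ({(y : G)} : Set G) := by
        rintro _ ⟨c, hc, rfl⟩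
        rw [mem_centralizer_singleton_iff]
        exact congrArg Subtype.val (mem_centralizer_singleton_iff.1 hc)
      have h2 := Nat.le_of_dvd Nat.card_pos (card_dvd_of_le h1)
      rwa [card_map_of_injective H.subtype_injective, hCG] at h2
    · have h1 : zpowers y ≤ centralizer ({y} : Set H) := by
        rw [zpowers_le, mem_centralizer_singleton_iff]
      have h2 := Nat.le_of_dvd Nat.card_pos (card_dvd_of_le h1)
      rwa [Nat.card_zpowers, hy] at h2
  have hIG := iso_of hr hr2 hsq hyG hCG
  have hIH := iso_of hr hr2 hsqH hy hCH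
  obtain ⟨e, w, he, hw, hws, hcase⟩ := struct hIH hr (by rw [Nat.card_zpowers, hy])
  obtain ⟨eG, -, -, -, heG, -⟩ := arith hr hyG hsq
  rw [hCG] at heG
  have hmodG := norm_mod hr hsq hyG hCG heG
  have hmodH := norm_mod hr hsqH hy hCH he
  have hdvd : e ∣ eG := by
    have h1 := card_dvd_of_le (normalizer_map_le y)
    rw [card_map_of_injective H.subtype_injective, he, heG] at h1
    exact Nat.dvd_of_mul_dvd_mul_left hr.pos h1
  have he0 : 0 < e := by
    rcases Nat.eq_zero_or_pos e with h | h
    · rw [h, mul_zero] at he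
      exact absurd he Nat.card_pos.ne'
    · exact h
  -- the check
  have hp0 : 0 < p ^ k := pow_pos hp.pos k
  have hdiv : Nat.card G / p ^ k = Nat.card H := by
    rw [← hcH]
    exact Nat.mul_div_cancel _ hp0
  obtain ⟨v, hvl, hkv⟩ := exists_pair hv hp (j := k) (by omega) (by rw [← hcH]; exact Dvd.intro_left _ rfl)
  unfold chkAll at hchk
  rw [List.all_eq_true] at hchk
  have h1 := hchk _ hvl
  rw [Bool.or_eq_true] at h1
  rcases h1 with h1 | h1
  · exact hrp (Nat.eq_of_beq_eq_true h1)
  rw [List.all_eq_true] at h1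
  have h2 := h1 k (List.mem_range.2 (by omega))
  rw [Bool.or_eq_true] at h2
  rcases h2 with h2 | h2
  · have := Nat.le_of_ble_eq_true h2
    omega
  unfold chkI at h2
  simp only [hdiv] at h2
  rw [hmodG, hmodH, Bool.or_eq_true] at h2
  rcases h2 with h2 | h2
  · rw [Nat.mod_eq_zero_of_dvd hdvd] at h2
    exact absurd h2 (by decide)
  rw [Bool.and_eq_true] at h2
  obtain ⟨hsol, hsim⟩ := h2
  have hnd := not_dead hv hr.one_lt hw hws
  rcases hcase with hcase | ⟨S, hSs, hSna, hSr, d, hde, hSd⟩
  · have h3 : Nat.card H / (r * e) = w := by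
      rw [hcase]
      exact Nat.mul_div_cancel _ (Nat.mul_pos hr.pos he0)
    have h4 : Nat.card H % (r * e) = 0 := by
      apply Nat.mod_eq_zero_of_dvd
      rw [hcase]
      exact Dvd.intro_left _ rfl
    rw [h3, h4, hnd] at hsol
    exact absurd hsol (by decide)
  · have hSk := hS S
    have hdS : Nat.card S ∣ Nat.card G := by
      rw [← hcH, hSd]
      refine Dvd.dvd.mul_right ?_ _
      refine Dvd.dvd.mul_left ?_ _
      exact Dvd.intro _ rfl
    obtain ⟨g, hg, -, hgc⟩ := exists_good T hSk hSna hv hdS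
    unfold chkO at hO
    rw [List.all_eq_true] at hO
    have h3 := hO g hg
    rw [Bool.or_eq_true] at h3
    rcases h3 with h3 | h3
    · rw [← hgc, Nat.mod_eq_zero_of_dvd hSr] at h3
      exact absurd h3 (by decide)
    rw [List.any_eq_true] at h3
    obtain ⟨o, ho, h3⟩ := h3
    have h4 : ordN g = o := Nat.eq_of_beq_eq_true h3
    rw [List.all_eq_true] at hsim
    have h5 := hsim o ho
    rw [List.all_eq_true] at h5
    have hd0 : 0 < d := Nat.pos_of_dvd_of_pos hde he0
    have h6 := h5 d (List.mem_range.2 (by have := Nat.le_of_dvd he0 hde; omega))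
    rw [Bool.or_eq_true, Bool.or_eq_true, Bool.or_eq_true] at h6
    rcases h6 with h6 | h6 | h6 | h6
    · have := Nat.eq_of_beq_eq_true h6
      omega
    · rw [Nat.mod_eq_zero_of_dvd hde] at h6
      exact absurd h6 (by decide)
    · rw [← h4, ← hgc] at h6
      have h7 : Nat.card H % (Nat.card S * d) = 0 := by
        apply Nat.mod_eq_zero_of_dvd
        rw [hSd]
        exact Dvd.intro_left _ rfl
      rw [h7] at h6
      exact absurd h6 (by decide)
    · rw [← h4, ← hgc] at h6
      have h7 : Nat.card H / (Nat.card S * d) = w := by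
        rw [hSd]
        exact Nat.mul_div_cancel _ (Nat.mul_pos Nat.card_pos hd0)
      rw [h7, hnd] at h6
      exact absurd h6 (by decide)

end Cfsg.Agent.H547.PP
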