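import Cfsg.Agent.H547.PP.Far
import Cfsg.Agent.OrdDiv.Main

/-!
# Subgroups of prime power index: the engine without self-centralizing elements (helper547)

`no_idx_two` : `G` simple of order `n` without elements of order `2 r` for the primes `r` of the list `J`; numeric
conditions; then `G` has no subgroup of index `p ^ k`, `k ≥ 2`.
-/

set_option autoImplicit false

namespace Cfsg.Agent.H547.PP

open Subgroup Cfsg.Agent.H702.TF Cfsg.Agent.OrdDiv Cfsg.Agent.H547.SelfCent

universe u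

/-! ### the checks -/

/-- every known simple order `≠ n` misses some `r ∈ J` -/
def chkM (n : ℕ) (l : List (ℕ × ℕ)) (v : ℕ) (J : List ℕ) : Bool :=
  (cands l n).all fun g => Nat.beq (ordN g) n || J.any fun r => !(Nat.beq (ordN g % r) 0) &&
    (List.range (v + 1)).all fun a => !(Nat.beq (ordN g % 2 ^ a) 0) || (Nat.beq (ordN g % 2 ^ (a + 1)) 0 ||
      !(Nat.beq (2 ^ a % r) 1))

/-- no power of 2 is 1 modulo all `r ∈ J` -/
def chkT (v : ℕ) (J : List ℕ) : Bool :=
  (List.range (v + 1)).all fun a => Nat.beq a 0 || J.any fun r => !(Nat.beq (2 ^ a % r) 1)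

/-- the conditions on the primes of `J` -/
def chkJ (n c : ℕ) (J : List ℕ) : Bool :=
  J.all fun r => isPrimeB r && (!(Nat.beq r 2) && (Nat.beq (n % r) 0 && (!(Nat.beq (n % (r * r)) 0) &&
    !(Nat.beq ((r - 1) % 2 ^ (c + 1)) 0))))

/-- the conditions on `r` for `p = 2` -/
def chkR (n : ℕ) (l : List (ℕ × ℕ)) (v c r : ℕ) : Bool :=
  (l.all fun x => Nat.beq x.1 r || (List.range (x.2 + 1)).all fun i => Nat.beq i 0 || (!(Nat.beq (x.1 ^ i % r) 1) ||
      (Nat.beq x.1 2 && Nat.blt c i))) &&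
    (((cands l n).all fun g => Nat.beq (ordN g) n || (!(Nat.beq (ordN g % r) 0) ||
        Nat.beq (ordN g % 2 ^ (c + 1)) 0)) &&
    ((List.range (v + 1)).all fun j => Nat.beq j 0 || (!(Nat.beq (2 ^ j % r) 1) ||
        !(Nat.beq ((r - 1) % 2 ^ (v - j)) 0))))

theorem not_beq {a b : ℕ} (h : (!(Nat.beq a b)) = true) : a ≠ b := by
  rintro rfl
  rw [Nat.beq_refl] at h
  exact absurd h (by decide)

theorem beq_eq {a b : ℕ} (h : Nat.beq a b = true) : a = b := Nat.eq_of_beq_eq_true h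

theorem ndvd_of {a b : ℕ} (h : (!(Nat.beq (a % b) 0)) = true) : ¬ b ∣ a := fun h1 =>
  not_beq h (Nat.mod_eq_zero_of_dvd h1)

theorem dvd_of {a b : ℕ} (h : Nat.beq (a % b) 0 = true) : b ∣ a := Nat.dvd_of_mod_eq_zero (beq_eq h)

theorem spec_J {n c : ℕ} {J : List ℕ} (h : chkJ n c J = true) {r : ℕ} (hr : r ∈ J) :
    r.Prime ∧ r ≠ 2 ∧ r ∣ n ∧ ¬ r * r ∣ n ∧ ¬ 2 ^ (c + 1) ∣ r - 1 := by
  unfold chkJ at h
  rw [List.all_eq_true] at h
  have h1 := h r hr
  simp only [Bool.and_eq_true] at h1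
  obtain ⟨h1, h2, h3, h4, h5⟩ := h1
  exact ⟨prime_of h1, not_beq h2, dvd_of h3, ndvd_of h4, ndvd_of h5⟩

/-- the quotient by the largest normal subgroup of order prime to the primes of `J` has a simple normal subgroup of
order divisible by a prime of `J` -/
theorem exists_simple {H : Type*} [Group H] [Finite H] {J : List ℕ} (hJ : ∀ r ∈ J, r.Prime)
    (hsq : ∀ r ∈ J, ¬ r * r ∣ Nat.card H) {r₀ : ℕ} (hr₀ : r₀ ∈ J) (hd : r₀ ∣ Nat.card H) :
    ∃ M : Subgroup (H ⧸ Ot J.prod H), M.Normal ∧ IsSimpleGroup M ∧ ∃ r ∈ J, r ∣ Nat.card M := by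
  have hcop : ∀ r ∈ J, ¬ r ∣ Nat.card (Ot J.prod H) := by
    intro r hr h1
    have h2 := Ot_coprime J.prod H
    have h3 : r ∣ J.prod := List.dvd_prod hr
    have h4 := Nat.dvd_gcd h1 h3
    rw [h2] at h4
    exact (hJ r hr).one_lt.ne' (Nat.dvd_one.1 h4)
  have hH : Nat.card H = Nat.card (Ot J.prod H) * Nat.card (H ⧸ Ot J.prod H) := by
    rw [card_eq_card_quotient_mul_card_subgroup (Ot J.prod H), mul_comm]
  have hd2 : r₀ ∣ Nat.card (H ⧸ Ot J.prod H) := by
    rw [hH] at hd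
    exact ((hJ r₀ hr₀).dvd_mul.1 hd).resolve_left (hcop r₀ hr₀)
  have hnt : Nontrivial (H ⧸ Ot J.prod H) := by
    rw [← Finite.one_lt_card_iff_nontrivial]
    exact lt_of_lt_of_le (hJ r₀ hr₀).one_lt (Nat.le_of_dvd Nat.card_pos hd2)
  obtain ⟨M, hM, hM1, hmin⟩ := Cfsg.Agent.Lib.SubnormalJoin.exists_minimal_normal (H ⧸ Ot J.prod H)
  have h1 : ¬ (Nat.card M).Coprime J.prod := fun h => hM1 (quot_Ot M hM h)
  obtain ⟨q, hq, hq1, hq2⟩ := Nat.Prime.not_coprime_iff_dvd.1 h1
  obtain ⟨r, hr, hqr⟩ := (Prime.dvd_prod_iff hq.prime).1 hq2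
  have hqr2 : q = r := (Nat.prime_dvd_prime_iff_eq hq (hJ r hr)).1 hqr
  subst hqr2
  refine ⟨M, hM, ?_, q, hr, hq1⟩
  refine simple_of_min hq (fun h => hsq q hr ?_) M hM1 hmin hq1
  exact h.trans (by rw [hH]; exact Dvd.intro_left _ rfl)

theorem not_dvd_Ot {H : Type*} [Group H] [Finite H] {J : List ℕ} (hJ : ∀ r ∈ J, r.Prime) {r : ℕ} (hr : r ∈ J) :
    ¬ r ∣ Nat.card (Ot J.prod H) := by
  intro h1
  have h2 := Ot_coprime J.prod H
  have h3 : r ∣ J.prod := List.dvd_prod hr
  have h4 := Nat.dvd_gcd h1 h3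
  rw [h2] at h4
  exact (hJ r hr).one_lt.ne' (Nat.dvd_one.1 h4)

/-- the order of a subgroup missing the numeric conditions has small 2-part -/
theorem two_part (T : OrderTable.{u})
    (hS : ∀ (X : Type u) [Group X] [Finite X] [IsSimpleGroup X], Cfsg.IsKnownSimple' X)
    {H : Type u} [Group H] [Finite H] {n v c : ℕ} {l : List (ℕ × ℕ)} (hv : valid l n = true) {J : List ℕ}
    (hJ : chkJ n c J = true) (hne : ∀ r ∈ J, NE r H) (hd : Nat.card H ∣ n) (hlt : Nat.card H < n)
    (hJH : ∀ r ∈ J, r ∣ Nat.card H) (hJ0 : J ≠ []) (h2 : ¬ 2 ^ (v + 1) ∣ n) (hM : chkM n l v J = true)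
    (hT : chkT v J = true) : ∃ r ∈ J, ∀ b, 2 ^ b ∣ Nat.card H → 2 ^ b ∣ r - 1 := by
  have hJp : ∀ r ∈ J, r.Prime := fun r hr => (spec_J hJ hr).1
  have hsqH : ∀ r ∈ J, ¬ r * r ∣ Nat.card H := fun r hr h => (spec_J hJ hr).2.2.2.1 (h.trans hd)
  obtain ⟨r₀, hr₀⟩ := List.exists_mem_of_ne_nil J hJ0
  obtain ⟨M, hMn, hMs, r, hr, hrM⟩ := exists_simple hJp hsqH hr₀ (hJH r₀ hr₀)
  have hH : Nat.card H = Nat.card (Ot J.prod H) * Nat.card (H ⧸ Ot J.prod H) := by
    rw [card_eq_card_quotient_mul_card_subgroup (Ot J.prod H), mul_comm]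
  have hXd : Nat.card (H ⧸ Ot J.prod H) ∣ Nat.card H := by rw [hH]; exact Dvd.intro_left _ rfl
  have hMd : Nat.card M ∣ Nat.card H := (card_subgroup_dvd_card M).trans hXd
  have hsqX : ∀ r ∈ J, ¬ r * r ∣ Nat.card (H ⧸ Ot J.prod H) := fun r hr h => hsqH r hr (h.trans hXd)
  have hJX : ∀ r ∈ J, r ∣ Nat.card (H ⧸ Ot J.prod H) := by
    intro r hr
    have h1 := hJH r hr
    rw [hH] at h1
    exact ((hJp r hr).dvd_mul.1 h1).resolve_left (not_dvd_Ot hJp hr)
  have hneX : ∀ r ∈ J, NE r (H ⧸ Ot J.prod H) := fun r hr => (hne r hr).quot _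
  have hfac2 : ∀ m, m ∣ Nat.card H → m.factorization 2 ≤ v := by
    intro m hm
    by_contra hlt
    apply h2
    refine (pow_dvd_pow 2 (by omega : v + 1 ≤ m.factorization 2)).trans ((Nat.ordProj_dvd m 2).trans (hm.trans hd))
  obtain ⟨hrp, hr2, -, -, hrc⟩ := spec_J hJ hr
  by_cases hab : ∀ a b : M, a * b = b * a
  · -- the order of `V` is odd
    refine ⟨r, hr, fun b hb => ?_⟩
    have hcp : (Nat.card M).Prime := by
      let _ : CommGroup M := { (inferInstance : Group M) with mul_comm := hab }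
      exact IsSimpleGroup.prime_card
    have hMr : Nat.card M = r := ((Nat.prime_dvd_prime_iff_eq hrp hcp).1 hrM).symm
    have hVodd : (Nat.card (Ot J.prod H)).factorization 2 = 0 := by
      unfold chkT at hT
      rw [List.all_eq_true] at hT
      have h1 := hT ((Nat.card (Ot J.prod H)).factorization 2)
        (List.mem_range.2 (Nat.lt_succ_of_le (hfac2 _ (card_subgroup_dvd_card _))))
      rw [Bool.or_eq_true] at h1
      rcases h1 with h1 | h1
      · exact beq_eq h1
      · exfalso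
        rw [List.any_eq_true] at h1
        obtain ⟨r', hr', h1⟩ := h1
        obtain ⟨hrp', hr2', -, -, -⟩ := spec_J hJ hr'
        exact not_beq h1 ((hne r' hr').two_mod hrp' hr2' (hJH r' hr') (Ot J.prod H) (not_dvd_Ot hJp hr'))
    have hV2 : Nat.Coprime (2 ^ b) (Nat.card (Ot J.prod H)) := by
      apply Nat.Coprime.pow_left
      rw [Nat.Prime.coprime_iff_not_dvd Nat.prime_two]
      intro h1
      have := Nat.prime_two.factorization_pos_of_dvd Nat.card_pos.ne' h1
      omega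
    rw [hH] at hb
    have hb2 : 2 ^ b ∣ Nat.card (H ⧸ Ot J.prod H) := hV2.dvd_of_dvd_mul_left hb
    rw [← card_mul_index M, hMr] at hb2
    have hb3 : 2 ^ b ∣ M.index := by
      refine Nat.Coprime.dvd_of_dvd_mul_left ?_ hb2
      exact Nat.Coprime.pow_left _ ((Nat.coprime_primes Nat.prime_two hrp).2 hr2.symm)
    have : Fact r.Prime := ⟨hrp⟩
    obtain ⟨y, hy⟩ := exists_prime_orderOf_dvd_card' (G := M) r hrM
    have hy' : orderOf (y : H ⧸ Ot J.prod H) = r := by rw [orderOf_coe, hy]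
    exact (hneX r hr).two_dvd hrp hr2 (hsqX r hr) hy' (hb3.trans (index_dvd hrp (hsqX r hr) M hy' y.2))
  · exfalso
    have hMk := hS M
    obtain ⟨g, hg, -, hgc⟩ := exists_good T hMk hab hv (hMd.trans hd)
    unfold chkM at hM
    rw [List.all_eq_true] at hM
    have h1 := hM g hg
    rw [Bool.or_eq_true] at h1
    rcases h1 with h1 | h1
    · have h3 := beq_eq h1
      rw [← hgc] at h3
      have := Nat.le_of_dvd Nat.card_pos hMd
      omega
    · rw [List.any_eq_true] at h1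
      obtain ⟨r', hr', h1⟩ := h1
      rw [Bool.and_eq_true, List.all_eq_true] at h1
      obtain ⟨h3, h4⟩ := h1
      rw [← hgc] at h3 h4
      obtain ⟨hrp', hr2', -, -, -⟩ := spec_J hJ hr'
      have h5 := (hneX r' hr').two_mod hrp' hr2' (hJX r' hr') M (ndvd_of h3)
      have h6 := h4 ((Nat.card M).factorization 2) (List.mem_range.2 (Nat.lt_succ_of_le (hfac2 _ hMd)))
      rw [Bool.or_eq_true, Bool.or_eq_true] at h6
      rcases h6 with h6 | h6 | h6
      · exact ndvd_of h6 (Nat.ordProj_dvd _ _)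
      · exact Nat.pow_succ_factorization_not_dvd Nat.card_pos.ne' Nat.prime_two (dvd_of h6)
      · exact not_beq h6 h5

/-- `V` centralized by `x`, the image of `⟨x⟩` normal modulo `V`: then `⟨x⟩` is normal -/
theorem zpowers_normal {H : Type*} [Group H] [Finite H] {r : ℕ} (hr : r.Prime) (hsq : ¬ r * r ∣ Nat.card H)
    (V : Subgroup H) [hV : V.Normal] (hrV : ¬ r ∣ Nat.card V) {x : H} (hx : orderOf x = r)
    (hc : ∀ v ∈ V, v * x = x * v) (M : Subgroup (H ⧸ V)) [hMn : M.Normal] (hM : Nat.card M = r) :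
    (zpowers x).Normal := by
  have hfr : Fact r.Prime := ⟨hr⟩
  -- the image of `x`
  have hxV : x ∉ V := by
    intro h
    apply hrV
    rw [← hx, ← Subgroup.orderOf_mk x h]
    exact orderOf_dvd_natCard _
  have hX : Nat.card H = Nat.card V * Nat.card (H ⧸ V) := by
    rw [card_eq_card_quotient_mul_card_subgroup V, mul_comm]
  have hsqX : ¬ r * r ∣ Nat.card (H ⧸ V) := fun h => hsq (h.trans (by rw [hX]; exact Dvd.intro_left _ rfl))
  have hxo : orderOf (QuotientGroup.mk' V x) = r := by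
    have h1 : orderOf (QuotientGroup.mk' V x) ∣ r := by
      rw [← hx]
      exact orderOf_map_dvd _ x
    rcases (Nat.dvd_prime hr).1 h1 with h2 | h2
    · exfalso
      apply hxV
      rw [orderOf_eq_one_iff] at h2
      exact (QuotientGroup.eq_one_iff x).1 h2
    · exact h2
  obtain ⟨m, hm⟩ := exists_prime_orderOf_dvd_card' (G := M) r (by rw [hM])
  have hm' : orderOf (m : H ⧸ V) = r := by rw [orderOf_coe, hm]
  have hMz : zpowers (m : H ⧸ V) = M := by
    apply Subgroup.eq_of_le_of_card_ge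
    · rw [zpowers_le]; exact m.2
    · rw [Nat.card_zpowers, hm', hM]
  have hxM : QuotientGroup.mk' V x ∈ M := by
    obtain ⟨g, hg1, hg2⟩ := exists_conj hr hsqX hxo hm'
    have h1 : g * (m : H ⧸ V) * g⁻¹ ∈ M := hMn.conj_mem _ m.2 g
    have h2 : zpowers (g * (m : H ⧸ V) * g⁻¹) ≤ M := by rwa [zpowers_le]
    exact h2 hg2
  have hMx : M = zpowers (QuotientGroup.mk' V x) := by
    symm
    apply Subgroup.eq_of_le_of_card_ge
    · rw [zpowers_le]; exact hxM
    · rw [Nat.card_zpowers, hxo, hM]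
  have key : ∀ h : H, h * x * h⁻¹ ∈ zpowers x := by
    intro h
    have h1 : QuotientGroup.mk' V (h * x * h⁻¹) ∈ zpowers (QuotientGroup.mk' V x) := by
      rw [← hMx, map_mul, map_mul, map_inv]
      exact hMn.conj_mem _ hxM _
    obtain ⟨i, hi⟩ := mem_zpowers_iff.1 h1
    rw [← map_zpow] at hi
    have h2 : (x ^ i)⁻¹ * (h * x * h⁻¹) ∈ V := QuotientGroup.eq.1 hi
    obtain ⟨v, hv, hvx⟩ : ∃ v ∈ V, h * x * h⁻¹ = v * x ^ i := by
      refine ⟨x ^ i * ((x ^ i)⁻¹ * (h * x * h⁻¹)) * (x ^ i)⁻¹, hV.conj_mem _ h2 _, by group⟩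
    have h3 : Commute v (x ^ i) := (show Commute v x from hc v hv).zpow_right i
    have h4 : (v * x ^ i) ^ r = 1 := by
      rw [← hvx, ← hx, conj_pow, pow_orderOf_eq_one]
      group
    rw [h3.mul_pow, ← zpow_natCast (x ^ i), ← zpow_mul, mul_comm i, zpow_mul, zpow_natCast, ← hx, pow_orderOf_eq_one,
      one_zpow, mul_one, hx] at h4
    have h5 : orderOf (⟨v, hv⟩ : V) ∣ r := orderOf_dvd_of_pow_eq_one (Subtype.ext h4)
    have h6 : (⟨v, hv⟩ : V) = 1 := by
      rcases (Nat.dvd_prime hr).1 h5 with h7 | h7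
      · exact orderOf_eq_one_iff.1 h7
      · exfalso
        apply hrV
        rw [← h7]
        exact orderOf_dvd_natCard _
    have h7 : v = 1 := congrArg Subtype.val h6
    rw [hvx, h7, one_mul]
    exact zpow_mem (mem_zpowers x) i
  refine ⟨fun y hy h => ?_⟩
  obtain ⟨i, rfl⟩ := mem_zpowers_iff.1 hy
  rw [← _root_.conj_zpow]
  exact zpow_mem (key h) i

/-- the index of the normalizer of a subgroup of order `r` -/
theorem index_mod {G : Type*} [Group G] [Finite G] {r : ℕ} (hr : r.Prime) (hsq : ¬ r * r ∣ Nat.card G) {x : G}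
    (hx : orderOf x = r) : (normalizer (zpowers x : Set G)).index % r = 1 := by
  obtain ⟨e, -, -, h2, h3, -⟩ := arith hr hx hsq
  rw [← h3] at h2
  have h4 := card_mul_index (normalizer (zpowers x : Set G))
  have h5 : Nat.card G / Nat.card (normalizer (zpowers x : Set G)) = (normalizer (zpowers x : Set G)).index := by
    rw [← h4]
    exact Nat.mul_div_cancel_left _ Nat.card_pos
  rw [h5] at h2
  rw [h2]
  exact Nat.mod_eq_of_lt hr.one_lt

/-- a simple group of order divisible by `r`, not of order `r`, has no normal subgroup `⟨x⟩` -/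
theorem normalizer_ne_top {G : Type*} [Group G] [Finite G] [IsSimpleGroup G] {r : ℕ} (hr : r.Prime) {x : G}
    (hx : orderOf x = r) (hG : Nat.card G ≠ r) : normalizer (zpowers x : Set G) ≠ ⊤ := by
  intro h
  have h1 : (zpowers x).Normal := normalizer_eq_top_iff.1 h
  rcases (inferInstance : IsSimpleGroup G).eq_bot_or_eq_top_of_normal _ h1 with h2 | h2
  · have h3 : x = 1 := zpowers_eq_bot.1 h2
    rw [h3, orderOf_one] at hx
    exact hr.one_lt.ne hx
  · apply hG
    rw [← Subgroup.card_top (G := G), ← h2, Nat.card_zpowers, hx]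

/-- **the case `p = 2`** -/
theorem false_two (T : OrderTable.{u})
    (hS : ∀ (X : Type u) [Group X] [Finite X] [IsSimpleGroup X], Cfsg.IsKnownSimple' X)
    {G : Type u} [Group G] [Finite G] [IsSimpleGroup G] {n v c r : ℕ} (hn : Nat.card G = n) {l : List (ℕ × ℕ)}
    (hv : valid l n = true) (hr : r.Prime) (hr2 : r ≠ 2) (hrn : r ∣ n) (hsq : ¬ r * r ∣ n) (hnr : n ≠ r)
    (hne : NE r G) (h2 : ¬ 2 ^ (v + 1) ∣ n) (h2' : 2 ^ v ∣ n) (hR : chkR n l v c r = true) {k : ℕ} (H : Subgroup G)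
    (hH : H.index = 2 ^ k) (hHt : H ≠ ⊤) (hc : ¬ 2 ^ (c + 1) ∣ Nat.card H) : False := by
  have hrf : Fact r.Prime := ⟨hr⟩
  subst hn
  unfold chkR at hR
  rw [Bool.and_eq_true, Bool.and_eq_true, List.all_eq_true, List.all_eq_true, List.all_eq_true] at hR
  obtain ⟨hR1, hR2, hR3⟩ := hR
  have hcH := card_mul_index H
  rw [hH] at hcH
  have hd : Nat.card H ∣ Nat.card G := card_subgroup_dvd_card H
  have hlt : Nat.card H < Nat.card G := by
    refine lt_of_le_of_ne (Nat.le_of_dvd Nat.card_pos hd) fun h => hHt (eq_top_of_card_eq H h)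
  have hrH : r ∣ Nat.card H := by
    rw [← hcH] at hrn
    rcases (Nat.Prime.dvd_mul hr).1 hrn with h | h
    · exact h
    · exact absurd ((Nat.prime_dvd_prime_iff_eq hr Nat.prime_two).1 (hr.dvd_of_dvd_pow h)) hr2
  have hsqH : ¬ r * r ∣ Nat.card H := fun h => hsq (h.trans hd)
  have hneH : NE r H := hne.sub H
  have hJ : ∀ q ∈ [r], q.Prime := by
    intro q hq
    rw [List.mem_singleton] at hq
    rwa [hq]
  obtain ⟨M, hMn, hMs, q, hq, hqM⟩ := exists_simple (J := [r]) hJ (by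
    intro q hq
    rw [List.mem_singleton] at hq
    rwa [hq]) (List.mem_singleton.2 rfl) hrH
  rw [List.mem_singleton] at hq
  subst hq
  have hrV := not_dvd_Ot (H := H) hJ (List.mem_singleton.2 rfl)
  have hH' : Nat.card H = Nat.card (Ot [q].prod H) * Nat.card (H ⧸ Ot [q].prod H) := by
    rw [card_eq_card_quotient_mul_card_subgroup (Ot [q].prod H), mul_comm]
  have hXd : Nat.card (H ⧸ Ot [q].prod H) ∣ Nat.card H := by rw [hH']; exact Dvd.intro_left _ rfl
  have hMd : Nat.card M ∣ Nat.card H := (card_subgroup_dvd_card M).trans hXd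
  by_cases hab : ∀ a b : M, a * b = b * a
  swap
  · have hMk := hS M
    obtain ⟨g, hg, -, hgc⟩ := exists_good T hMk hab hv (hMd.trans hd)
    have h1 := hR2 g hg
    rw [Bool.or_eq_true, Bool.or_eq_true, ← hgc] at h1
    rcases h1 with h1 | h1 | h1
    · have h3 := beq_eq h1
      have := Nat.le_of_dvd Nat.card_pos hMd
      omega
    · exact ndvd_of h1 hqM
    · exact hc ((dvd_of h1).trans hMd)
  have hcp : (Nat.card M).Prime := by
    let _ : CommGroup M := { (inferInstance : Group M) with mul_comm := hab }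
    exact IsSimpleGroup.prime_card
  have hMr : Nat.card M = q := ((Nat.prime_dvd_prime_iff_eq hr hcp).1 hqM).symm
  obtain ⟨y, hy⟩ := exists_prime_orderOf_dvd_card' (G := H) q hrH
  -- `y` centralizes `V`
  have hcent := centralizes hr hsqH (Ot [q].prod H) hrV (by
    intro s hs i hi hsi hmod
    have hsi' : s ^ i ∣ Nat.card G := hsi.trans ((card_subgroup_dvd_card _).trans hd)
    obtain ⟨w, hw, hiw⟩ := exists_pair hv hs hi hsi'
    have h1 := hR1 _ hw
    rw [Bool.or_eq_true] at h1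
    rcases h1 with h1 | h1
    · have h3 : s = q := beq_eq h1
      have h4 : q ∣ s ^ i := by
        rw [h3]
        exact dvd_pow_self q (by omega)
      exact hrV (h4.trans hsi)
    · rw [List.all_eq_true] at h1
      have h3 := h1 i (List.mem_range.2 (by omega))
      rw [Bool.or_eq_true, Bool.or_eq_true, Bool.and_eq_true] at h3
      rcases h3 with h3 | h3 | ⟨h3, h4⟩
      · have := beq_eq h3
        omega
      · exact not_beq h3 hmod
      · have h5 := beq_eq h3
        have h6 : c < i := by rwa [Nat.blt_eq] at h4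
        simp only at h5
        subst h5
        apply hc
        exact (pow_dvd_pow 2 (by omega : c + 1 ≤ i)).trans (hsi.trans (card_subgroup_dvd_card _))) hy
  have hnorm := zpowers_normal hr hsqH (Ot [q].prod H) hrV hy hcent M hMr
  have hyG : orderOf (y : G) = q := by rw [orderOf_coe, hy]
  have hle : H ≤ normalizer (zpowers (y : G) : Set G) := by
    have h1 : (zpowers (y : G) : Subgroup G) = (zpowers y).map H.subtype := by
      rw [MonoidHom.map_zpowers]
      rfl
    have h2 := le_normalizer_map (H := zpowers y) H.subtype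
    rw [normalizer_eq_top_iff.2 hnorm, ← h1] at h2
    intro h hh
    exact h2 ⟨⟨h, hh⟩, trivial, rfl⟩
  have hdi : (normalizer (zpowers (y : G) : Set G)).index ∣ 2 ^ k := by
    rw [← hH]
    exact index_dvd_of_le hle
  obtain ⟨j, -, hj⟩ := (Nat.dvd_prime_pow Nat.prime_two).1 hdi
  have hmod := index_mod hr hsq hyG
  rw [hj] at hmod
  have hN := card_mul_index (normalizer (zpowers (y : G) : Set G))
  rw [hj] at hN
  have hjv : j ≤ v := by
    by_contra hlt
    apply h2
    refine (pow_dvd_pow 2 (by omega : v + 1 ≤ j)).trans ?_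
    rw [← hN]
    exact Dvd.intro_left _ rfl
  have h2N : 2 ^ (v - j) ∣ Nat.card (normalizer (zpowers (y : G) : Set G)) := by
    rw [← hN, ← Nat.sub_add_cancel hjv, pow_add] at h2'
    exact Nat.dvd_of_mul_dvd_mul_right (pow_pos (by norm_num) j) h2'
  have h3 := hne.two_dvd hr hr2 hsq hyG h2N
  have h4 := hR3 j (List.mem_range.2 (by omega))
  rw [Bool.or_eq_true, Bool.or_eq_true] at h4
  rcases h4 with h4 | h4 | h4
  · have h5 := beq_eq h4
    rw [h5, pow_zero, index_eq_one] at hj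
    exact normalizer_ne_top hr hyG hnr hj
  · exact not_beq h4 hmod
  · exact ndvd_of h4 h3

/-- **the engine without self-centralizing elements** -/
theorem no_idx_two (T : OrderTable.{u})
    (hS : ∀ (X : Type u) [Group X] [Finite X] [IsSimpleGroup X], Cfsg.IsKnownSimple' X)
    {G : Type u} [Group G] [Finite G] [IsSimpleGroup G] {n v c r₀ : ℕ} (hn : Nat.card G = n) {l : List (ℕ × ℕ)}
    (hv : valid l n = true) {J : List ℕ} (hJ : chkJ n c J = true) (hne : ∀ r ∈ J, NE r G) (hr₀ : r₀ ∈ J)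
    (hcv : c < v) (h2 : ¬ 2 ^ (v + 1) ∣ n) (h2' : 2 ^ v ∣ n) (hM : chkM n l v J = true) (hT : chkT v J = true)
    (hR : chkR n l v c r₀ = true) {p k : ℕ} (hp : p.Prime) (hk : 2 ≤ k) (H : Subgroup G) (hH : H.index = p ^ k) :
    False := by
  have hHt : H ≠ ⊤ := by
    rintro rfl
    rw [index_top] at hH
    exact absurd hH.symm (Nat.one_lt_pow (by omega) hp.one_lt).ne'
  have hcH := card_mul_index H
  rw [hH] at hcH
  have hd : Nat.card H ∣ n := by rw [← hn]; exact card_subgroup_dvd_card H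
  have hlt : Nat.card H < n := by
    rw [← hn]
    refine lt_of_le_of_ne (Nat.le_of_dvd Nat.card_pos (card_subgroup_dvd_card H)) fun h => hHt (eq_top_of_card_eq H h)
  have hJH : ∀ r ∈ J, r ∣ Nat.card H := by
    intro r hr
    obtain ⟨hrp, hr2, hrn, hsq, -⟩ := spec_J hJ hr
    rw [← hn, ← hcH] at hrn
    rcases (Nat.Prime.dvd_mul hrp).1 hrn with h | h
    · exact h
    · exfalso
      have h1 := (Nat.prime_dvd_prime_iff_eq hrp hp).1 (hrp.dvd_of_dvd_pow h)
      subst h1
      apply hsq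
      rw [← hn, ← hcH]
      refine Dvd.dvd.mul_left ?_ _
      rw [← pow_two]
      exact pow_dvd_pow r hk
  obtain ⟨r, hr, h3⟩ := two_part T hS hv hJ (fun r hr => (hne r hr).sub H) hd hlt hJH (List.ne_nil_of_mem hr₀) h2 hM hT
  have hcc : ¬ 2 ^ (c + 1) ∣ Nat.card H := fun h => (spec_J hJ hr).2.2.2.2 (h3 _ h)
  by_cases hp2 : p = 2
  · subst hp2
    obtain ⟨hrp, hr2, hrn, hsq, -⟩ := spec_J hJ hr₀
    refine false_two T hS hn hv hrp hr2 hrn hsq ?_ (hne r₀ hr₀) h2 h2' hR H hH hHt hcc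
    rintro rfl
    exact (Nat.Prime.coprime_iff_not_dvd Nat.prime_two).1 ((Nat.coprime_primes Nat.prime_two hrp).2 hr2.symm)
      ((dvd_pow_self 2 (by omega)).trans h2')
  · apply hcc
    have h4 : 2 ^ (c + 1) ∣ n := (pow_dvd_pow 2 (by omega)).trans h2'
    rw [← hn, ← hcH] at h4
    refine Nat.Coprime.dvd_of_dvd_mul_right ?_ h4
    exact Nat.Coprime.pow _ _ ((Nat.coprime_primes Nat.prime_two hp).2 (Ne.symm hp2))

end Cfsg.Agent.H547.PP
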