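import Cfsg.Agent.H547.PP.Engine
import Cfsg.Agent.H547.PP.EngineTwo

/-!
# Groups without subgroups of index `p ^ k`, `k ≥ 2` (helper547)
-/

set_option autoImplicit false

namespace Cfsg.Agent.H547.PP

open Subgroup Cfsg.Agent.OrdDiv

/-- no subgroup of index `p ^ k`, `k ≥ 2` -/
def NoIdx (M : Type*) [Group M] : Prop := ∀ (p k : ℕ), p.Prime → 2 ≤ k → ∀ H : Subgroup M, H.index ≠ p ^ k

theorem NoIdx.congr {G M : Type*} [Group G] [Group M] (e : G ≃* M) (h : NoIdx M) : NoIdx G := by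
  intro p k hp hk H hH
  refine h p k hp hk (H.comap e.symm.toMonoidHom) ?_
  rw [index_comap_of_surjective _ e.symm.surjective, hH]

/-- a row of the first engine -/
theorem noIdx_one (T : OrderTable.{0}) (hS : ∀ (X : Type) [Group X] [Finite X] [IsSimpleGroup X], Cfsg.IsKnownSimple' X)
    {M : Type} [Group M] [Finite M] {r n : ℕ} (hr : r.Prime) (hr2 : r ≠ 2) (hn : Nat.card M = n)
    (hsq : ¬ r * r ∣ n) {l : List (ℕ × ℕ)} (hv : valid l n = true) {x : M} (hx : orderOf x = r)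
    (hC : Nat.card (centralizer ({x} : Set M)) = r) {O : List ℕ} (hO : chkO n l r O = true)
    (hchk : chkAll n l r O = true) : NoIdx M := fun _ _ hp hk H hH =>
  no_idx T hS hr hr2 hn hsq hv hx hC hO hchk hp hk H hH

/-- a row of the second engine -/
theorem noIdx_two (T : OrderTable.{0}) (hS : ∀ (X : Type) [Group X] [Finite X] [IsSimpleGroup X], Cfsg.IsKnownSimple' X)
    {M : Type} [Group M] [Finite M] (hs : IsSimpleGroup M) {n v c r₀ : ℕ} (hn : Nat.card M = n) {l : List (ℕ × ℕ)}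
    (hv : valid l n = true) {J : List ℕ} (hJ : chkJ n c J = true) (hne : ∀ r ∈ J, NE r M) (hr₀ : r₀ ∈ J)
    (hcv : c < v) (h2 : ¬ 2 ^ (v + 1) ∣ n) (h2' : 2 ^ v ∣ n) (hM : chkM n l v J = true) (hT : chkT v J = true)
    (hR : chkR n l v c r₀ = true) : NoIdx M := fun _ _ hp hk H hH =>
  no_idx_two T hS hn hv hJ hne hr₀ hcv h2 h2' hM hT hR hp hk H hH

end Cfsg.Agent.H547.PP
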