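import Cfsg.Agent.H547.PP.Three

/-!
# Subgroups of prime power index of the Harada-Norton group (helper547)
-/

set_option autoImplicit false
set_option maxRecDepth 100000
set_option exponentiation.threshold 1000

namespace Cfsg.Agent.H547.PP.HNEngine

open Subgroup Cfsg.Agent.H702.TF Cfsg.Agent.OrdDiv Cfsg.Agent.H547.SelfCent Cfsg.Agent.H547.PP

universe u

/-- the factorization of `|HN|` -/
def l_hn : List (ℕ × ℕ) := [(2, 14), (3, 6), (5, 6), (7, 1), (11, 1), (19, 1)]

theorem v_hn : valid l_hn 273030912000000 = true := by decide +kernel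

/-- the conditions on the known simple orders -/
def chkA : Bool :=
  (cands l_hn 273030912000000).all fun g => Nat.beq (ordN g) 273030912000000 || (!(Nat.beq (ordN g % 19) 0) ||
    (!(Nat.beq (ordN g % 2 ^ 13) 0) && (!(Nat.beq (ordN g % 5 ^ 3) 0) && ((List.range 15).all fun a =>
      !(Nat.beq (ordN g % 2 ^ a) 0) || (Nat.beq (ordN g % 2 ^ (a + 1)) 0 || !(Nat.beq (2 ^ a % 5) 1))))))

theorem a_hn : chkA = true := by decide +kernel

/-- the element of order 19 centralizes -/
def chkL : Bool :=
  l_hn.all fun x => Nat.beq x.1 19 || (List.range (x.2 + 1)).all fun i => Nat.beq i 0 || !(Nat.beq (x.1 ^ i % 19) 1)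

theorem cl_hn : chkL = true := by decide +kernel

theorem r_hn : chkR 273030912000000 l_hn 14 1 19 = true := by decide +kernel

theorem pow_mod : ∀ a ∈ List.range 15, 2 ^ a % 19 = 1 → a = 0 := by decide +kernel

theorem false_of_index (T : OrderTable.{u})
    (hS : ∀ (X : Type u) [Group X] [Finite X] [IsSimpleGroup X], Cfsg.IsKnownSimple' X)
    {G : Type u} [Group G] [Finite G] [IsSimpleGroup G] (hn : Nat.card G = 273030912000000) (hne : NE 19 G)
    (hinv : ∀ t : G, orderOf t = 2 → ¬ 5 ^ 4 ∣ Nat.card (centralizer ({t} : Set G)))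
    {p k : ℕ} (hp : p.Prime) (hk : 2 ≤ k) (H : Subgroup G) (hH : H.index = p ^ k) : False := by
  have h19 : Nat.Prime 19 := by norm_num
  have hf19 : Fact (Nat.Prime 19) := ⟨h19⟩
  have hHt : H ≠ ⊤ := by
    rintro rfl
    rw [index_top] at hH
    exact absurd hH.symm (Nat.one_lt_pow (by omega) hp.one_lt).ne'
  have hcH := card_mul_index H
  rw [hH, hn] at hcH
  have hd : Nat.card H ∣ 273030912000000 := by rw [← hn]; exact card_subgroup_dvd_card H
  have hlt : Nat.card H < 273030912000000 := by
    rw [← hn]
    refine lt_of_le_of_ne (Nat.le_of_dvd Nat.card_pos (card_subgroup_dvd_card H)) fun h => hHt (eq_top_of_card_eq H h)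
  -- prime powers dividing the order of `H`
  have hpow : ∀ q a : ℕ, q.Prime → q ≠ p → q ^ a ∣ 273030912000000 → q ^ a ∣ Nat.card H := by
    intro q a hq hqp h1
    rw [← hcH] at h1
    refine Nat.Coprime.dvd_of_dvd_mul_right ?_ h1
    exact Nat.Coprime.pow _ _ ((Nat.coprime_primes hq hp).2 hqp)
  have hp19 : (19 : ℕ) ≠ p := by
    rintro rfl
    have h1 : 19 ^ 2 ∣ 273030912000000 := by
      rw [← hcH]
      exact (pow_dvd_pow 19 hk).mul_left _
    norm_num at h1
  have hrH : 19 ∣ Nat.card H := by
    have := hpow 19 1 h19 hp19 (by norm_num)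
    rwa [pow_one] at this
  have hsqG : ¬ 19 * 19 ∣ Nat.card G := by rw [hn]; norm_num
  have hsqH : ¬ 19 * 19 ∣ Nat.card H := fun h => hsqG (h.trans (card_subgroup_dvd_card H))
  have hneH : NE 19 H := hne.sub H
  have hJ : ∀ q ∈ [19], q.Prime := by
    intro q hq
    rw [List.mem_singleton] at hq
    rwa [hq]
  obtain ⟨M, hMn, hMs, q, hq, hqM⟩ := exists_simple (J := [19]) hJ (by
    intro q hq
    rw [List.mem_singleton] at hq
    rwa [hq]) (List.mem_singleton.2 rfl) hrH
  rw [List.mem_singleton] at hq
  subst hq
  have hrV := not_dvd_Ot (H := H) hJ (List.mem_singleton.2 rfl)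
  have hH' : Nat.card H = Nat.card (Ot [19].prod H) * Nat.card (H ⧸ Ot [19].prod H) := by
    rw [card_eq_card_quotient_mul_card_subgroup (Ot [19].prod H), mul_comm]
  have hXd : Nat.card (H ⧸ Ot [19].prod H) ∣ Nat.card H := by rw [hH']; exact Dvd.intro_left _ rfl
  have hsqX : ¬ 19 * 19 ∣ Nat.card (H ⧸ Ot [19].prod H) := fun h => hsqH (h.trans hXd)
  have hMd : Nat.card M ∣ Nat.card H := (card_subgroup_dvd_card M).trans hXd
  have hneX : NE 19 (H ⧸ Ot [19].prod H) := hneH.quot _
  have hfac : ∀ q w m : ℕ, q.Prime → ¬ q ^ (w + 1) ∣ 273030912000000 → m ∣ Nat.card H → m.factorization q ≤ w := by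
    intro q w m hq hqw hm
    by_contra hlt
    exact hqw ((pow_dvd_pow q (by omega : w + 1 ≤ m.factorization q)).trans ((Nat.ordProj_dvd m q).trans (hm.trans hd)))
  -- `V` has odd order
  have hV2 : (Nat.card (Ot [19].prod H)).factorization 2 = 0 := by
    have h1 := hneH.two_mod h19 (by norm_num) hrH (Ot [19].prod H) hrV
    exact pow_mod _ (List.mem_range.2 (Nat.lt_succ_of_le (hfac 2 14 _ Nat.prime_two (by norm_num)
      (card_subgroup_dvd_card _)))) h1
  have hVodd : ¬ 2 ∣ Nat.card (Ot [19].prod H) := by
    intro h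
    have := Nat.prime_two.factorization_pos_of_dvd Nat.card_pos.ne' h
    omega
  -- the index of `M`
  have hMi : ∀ y : M, orderOf y = 19 → ∀ b, 2 ^ b ∣ M.index → 2 ^ b ∣ 18 := by
    intro y hy b hb
    have hy' : orderOf (y : H ⧸ Ot [19].prod H) = 19 := by rw [orderOf_coe, hy]
    exact hneX.two_dvd h19 (by norm_num) hsqX hy' (hb.trans (index_dvd h19 hsqX M hy' y.2))
  obtain ⟨y, hy⟩ := exists_prime_orderOf_dvd_card' (G := M) 19 hqM
  have hMi2 := hMi y hy
  have hi1 : M.index.factorization 2 ≤ 1 := by
    by_contra hlt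
    have h1 : 2 ^ 2 ∣ M.index := (pow_dvd_pow 2 (by omega)).trans (Nat.ordProj_dvd _ _)
    have := hMi2 2 h1
    norm_num at this
  have hf2 : (Nat.card H).factorization 2 = (Nat.card M).factorization 2 + M.index.factorization 2 := by
    rw [hH', Nat.factorization_mul Nat.card_pos.ne' Nat.card_pos.ne', Finsupp.add_apply, hV2, zero_add,
      ← card_mul_index M, Nat.factorization_mul Nat.card_pos.ne' index_ne_zero_of_finite, Finsupp.add_apply]
  by_cases hab : ∀ a b : M, a * b = b * a
  · have hcp : (Nat.card M).Prime := by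
      let _ : CommGroup M := { (inferInstance : Group M) with mul_comm := hab }
      exact IsSimpleGroup.prime_card
    have hMr : Nat.card M = 19 := ((Nat.prime_dvd_prime_iff_eq h19 hcp).1 hqM).symm
    have hM2 : (Nat.card M).factorization 2 = 0 := by
      rw [hMr]
      exact Nat.factorization_eq_zero_of_not_dvd (by norm_num)
    have hc : ¬ 2 ^ (1 + 1) ∣ Nat.card H := by
      intro h
      have := (Nat.prime_two.pow_dvd_iff_le_factorization Nat.card_pos.ne').1 h
      omega
    by_cases hp2 : p = 2
    · subst hp2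
      exact false_two T hS hn v_hn h19 (by norm_num) (by norm_num) (by norm_num) (by norm_num) hne (by norm_num)
        (by norm_num) r_hn H hH hHt hc
    · exact hc (hpow 2 2 Nat.prime_two (Ne.symm hp2) (by norm_num))
  · have hMk := hS M
    obtain ⟨g, hg, -, hgc⟩ := exists_good T hMk hab v_hn (hMd.trans hd)
    have h1 := a_hn
    unfold chkA at h1
    rw [List.all_eq_true] at h1
    have h2 := h1 g hg
    rw [Bool.or_eq_true, Bool.or_eq_true, Bool.and_eq_true, Bool.and_eq_true, List.all_eq_true, ← hgc] at h2
    rcases h2 with h2 | h2 | ⟨h2, h3, h4⟩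
    · have h5 := beq_eq h2
      have := Nat.le_of_dvd Nat.card_pos hMd
      omega
    · exact ndvd_of h2 hqM
    · by_cases hp2 : p = 2
      · subst hp2
        -- the element `x`
        obtain ⟨x, hx⟩ := exists_prime_orderOf_dvd_card' (G := H) 19 hrH
        have hxV : x ∉ Ot [19].prod H := by
          intro h
          have h5 : orderOf (⟨x, h⟩ : Ot [19].prod H) = 19 := by rw [Subgroup.orderOf_mk, hx]
          have h6 : orderOf (⟨x, h⟩ : Ot [19].prod H) ∣ Nat.card (Ot [19].prod H) := orderOf_dvd_natCard _
          exact hrV ((dvd_of_eq h5.symm).trans h6)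
        have hxo : orderOf (QuotientGroup.mk' (Ot [19].prod H) x) = 19 := by
          have h5 : orderOf (QuotientGroup.mk' (Ot [19].prod H) x) ∣ 19 := by
            rw [← hx]
            exact orderOf_map_dvd _ x
          rcases (Nat.dvd_prime h19).1 h5 with h6 | h6
          · exfalso
            apply hxV
            rw [orderOf_eq_one_iff] at h6
            exact (QuotientGroup.eq_one_iff x).1 h6
          · exact h6
        have hxM : QuotientGroup.mk' (Ot [19].prod H) x ∈ M := by
          have hy' : orderOf (y : H ⧸ Ot [19].prod H) = 19 := by rw [orderOf_coe, hy]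
          obtain ⟨g', hg1, hg2⟩ := exists_conj h19 hsqX hxo hy'
          have h5 : g' * (y : H ⧸ Ot [19].prod H) * g'⁻¹ ∈ M := hMn.conj_mem _ y.2 g'
          have h6 : zpowers (g' * (y : H ⧸ Ot [19].prod H) * g'⁻¹) ≤ M := by rwa [zpowers_le]
          exact h6 hg2
        have hcent := centralizes h19 hsqH (Ot [19].prod H) hrV (by
          intro s hs i hi hsi hmod
          have hsi' : s ^ i ∣ 273030912000000 := hsi.trans ((card_subgroup_dvd_card _).trans hd)
          obtain ⟨w, hw, hiw⟩ := exists_pair v_hn hs hi hsi'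
          have h5 := cl_hn
          unfold chkL at h5
          rw [List.all_eq_true] at h5
          have h6 := h5 _ hw
          rw [Bool.or_eq_true] at h6
          rcases h6 with h6 | h6
          · have h7 : s = 19 := beq_eq h6
            have h8 : 19 ∣ s ^ i := by
              rw [h7]
              exact dvd_pow_self 19 (by omega)
            exact hrV (h8.trans hsi)
          · rw [List.all_eq_true] at h6
            have h7 := h6 i (List.mem_range.2 (by omega))
            rw [Bool.or_eq_true] at h7
            rcases h7 with h7 | h7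
            · have := beq_eq h7
              omega
            · exact not_beq h7 hmod) hx
        have hmod5 : 2 ^ (Nat.card M).factorization 2 % 5 ≠ 1 := by
          intro hmod
          have h6 := h4 ((Nat.card M).factorization 2) (List.mem_range.2 (Nat.lt_succ_of_le
            (hfac 2 14 _ Nat.prime_two (by norm_num) hMd)))
          rw [Bool.or_eq_true, Bool.or_eq_true] at h6
          rcases h6 with h6 | h6 | h6
          · exact ndvd_of h6 (Nat.ordProj_dvd _ _)
          · exact Nat.pow_succ_factorization_not_dvd Nat.card_pos.ne' Nat.prime_two (dvd_of h6)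
          · exact not_beq h6 hmod
        obtain ⟨t, ht, htf⟩ := exists_invol (Ot [19].prod H) hVodd hxV hcent M hMs hxM Nat.prime_five hmod5
        have h5H : 6 ≤ (Nat.card H).factorization 5 :=
          (Nat.prime_five.pow_dvd_iff_le_factorization Nat.card_pos.ne').1 (hpow 5 6 Nat.prime_five (by norm_num)
            (by norm_num))
        have h5M : (Nat.card M).factorization 5 ≤ 2 := by
          by_contra hlt
          exact ndvd_of h3 ((pow_dvd_pow 5 (by omega)).trans (Nat.ordProj_dvd _ _))
        apply hinv (t : G) (by rw [orderOf_coe, ht])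
        have h7 : 5 ^ 4 ∣ Nat.card (centralizer ({t} : Set H)) :=
          (Nat.prime_five.pow_dvd_iff_le_factorization Nat.card_pos.ne').2 (by omega)
        refine h7.trans ?_
        have h8 : (centralizer ({t} : Set H)).map H.subtype ≤ centralizer ({(t : G)} : Set G) := by
          rintro _ ⟨c, hc, rfl⟩
          rw [mem_centralizer_singleton_iff]
          exact congrArg Subtype.val (mem_centralizer_singleton_iff.1 hc)
        have h9 := card_dvd_of_le h8
        rwa [card_map_of_injective H.subtype_injective] at h9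
      · have h5 : 14 ≤ (Nat.card H).factorization 2 :=
          (Nat.prime_two.pow_dvd_iff_le_factorization Nat.card_pos.ne').1 (hpow 2 14 Nat.prime_two (Ne.symm hp2)
            (by norm_num))
        apply ndvd_of h2
        exact (Nat.prime_two.pow_dvd_iff_le_factorization Nat.card_pos.ne').2 (by omega)

end Cfsg.Agent.H547.PP.HNEngine
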