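import Cfsg.Agent.H547.PP.NoIdx
import Cfsg.Agent.H547.PP.HNEngine
import Cfsg.Agent.H393.Iso.He
import Cfsg.Agent.SigZeroHN.Main
import Cfsg.Agent.NotCT.Orders

/-!
# The Harada-Norton group has no subgroup of index `p ^ k`, `k ≥ 2` (helper547)
-/

set_option autoImplicit false

namespace Cfsg.Agent.H547.PP.RowHN

open Subgroup Cfsg Cfsg.Agent.OrdDiv

universe u

theorem hn (T : OrderTable.{0}) (hS : ∀ (X : Type) [Group X] [Finite X] [IsSimpleGroup X], IsKnownSimple' X)
    {G : Type u} [Group G] (hs : IsSimpleGroup G) (h : Spor.IsoHN G) : NoIdx G := by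
  obtain ⟨e⟩ := h
  have hn : Nat.card Spor.HN = 273030912000000 := NotCT.Orders.hn ⟨MulEquiv.refl _⟩
  have hf : Finite Spor.HN := Nat.finite_of_card_ne_zero (by rw [hn]; norm_num)
  have hsm : IsSimpleGroup Spor.HN := (MulEquiv.isSimpleGroup_congr e).1 hs
  refine NoIdx.congr e fun p k hp hk H hH => ?_
  refine HNEngine.false_of_index T hS hn (fun g => (H393.Iso.na_hn_model).ne_two_mul (by norm_num) g) ?_ hp hk H hH
  intro t ht
  rcases Cfsg.Agent.SigZeroHN.card_centralizer_cases ht with ⟨-, h1⟩ | ⟨-, h1⟩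
  · rw [h1]; norm_num
  · rw [h1]; norm_num

end Cfsg.Agent.H547.PP.RowHN
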