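import Cfsg.Agent.H393.Iso.ON
import Cfsg.Agent.H393.Iso.He

/-!
# Further primes not adjacent to 2 in `O'N` and `Th` (helper547)
-/

set_option autoImplicit false

namespace Cfsg.Agent.H547.PP.FarSmall

open Subgroup Cfsg Cfsg.Agent.H393.Iso

section

open Cfsg.Spor (ON)
open Cfsg.Agent.SporadicB.ONHom Cfsg.Agent.SporadicB.ON45Word

theorem na_on [Finite ON] {p : ℕ} (hp : ¬ p ∣ 161280) : NA p ON := by
  refine NA.of_isConj (fun s => s = on .f) (fun t ht ht1 => ⟨_, rfl, ?_⟩) ?_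
  · exact (Cfsg.Agent.KFacts.ON.OneClass.one_class ht ht1).symm
  · rintro s rfl x hx hxs
    refine not_comm_of_card ?_ hx hxs
    rwa [Cfsg.Agent.KFacts.ON.Cent.card_cent]

end

theorem na_th [Finite Cfsg.Spor.Th] {p : ℕ} (hp : ¬ p ∣ 92897280) : NA p Cfsg.Spor.Th := by
  refine NA.of_card fun t ht => ?_
  rwa [MonsterX.ThOneClass.card_centralizer ht]

end Cfsg.Agent.H547.PP.FarSmall
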