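import Cfsg.Agent.H547.PP.EngineTwo

/-!
# The tables of the second engine (helper547)
-/

set_option autoImplicit false
set_option maxRecDepth 100000
set_option exponentiation.threshold 1000

namespace Cfsg.Agent.H547.PP.Tab2

open Cfsg.Agent.OrdDiv

/-- the factorization -/
def l_on : List (ℕ × ℕ) := [(2, 9), (3, 4), (5, 1), (7, 3), (11, 1), (19, 1), (31, 1)]

theorem v_on : valid l_on 460815505920 = true := by decide +kernel

theorem m_on : chkM 460815505920 l_on 9 [11, 19, 31] = true := by decide +kernel

theorem t_on : chkT 9 [11, 19, 31] = true := by decide +kernel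

theorem j_on : chkJ 460815505920 1 [11, 19, 31] = true := by decide +kernel

theorem r_on : chkR 460815505920 l_on 9 1 11 = true := by decide +kernel

/-- the factorization -/
def l_ly : List (ℕ × ℕ) := [(2, 8), (3, 7), (5, 6), (7, 1), (11, 1), (31, 1), (37, 1), (67, 1)]

theorem v_ly : valid l_ly 51765179004000000 = true := by decide +kernel

theorem m_ly : chkM 51765179004000000 l_ly 8 [67] = true := by decide +kernel

theorem t_ly : chkT 8 [67] = true := by decide +kernel

theorem j_ly : chkJ 51765179004000000 1 [67] = true := by decide +kernel

theorem r_ly : chkR 51765179004000000 l_ly 8 1 67 = true := by decide +kernel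

/-- the factorization -/
def l_th : List (ℕ × ℕ) := [(2, 15), (3, 10), (5, 3), (7, 2), (13, 1), (19, 1), (31, 1)]

theorem v_th : valid l_th 90745943887872000 = true := by decide +kernel

theorem m_th : chkM 90745943887872000 l_th 15 [19, 31] = true := by decide +kernel

theorem t_th : chkT 15 [19, 31] = true := by decide +kernel

theorem j_th : chkJ 90745943887872000 1 [19, 31] = true := by decide +kernel

theorem r_th : chkR 90745943887872000 l_th 15 1 19 = true := by decide +kernel

/-- the factorization -/
def l_b : List (ℕ × ℕ) := [(2, 41), (3, 13), (5, 6), (7, 2), (11, 1), (13, 1), (17, 1), (19, 1), (23, 1), (31, 1), (47, 1)]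

theorem v_b : valid l_b 4154781481226426191177580544000000 = true := by decide +kernel

theorem m_b : chkM 4154781481226426191177580544000000 l_b 41 [31, 47] = true := by decide +kernel

theorem t_b : chkT 41 [31, 47] = true := by decide +kernel

theorem j_b : chkJ 4154781481226426191177580544000000 1 [31, 47] = true := by decide +kernel

theorem r_b : chkR 4154781481226426191177580544000000 l_b 41 1 47 = true := by decide +kernel

/-- the factorization -/
def l_m : List (ℕ × ℕ) := [(2, 46), (3, 20), (5, 9), (7, 6), (11, 2), (13, 3), (17, 1), (19, 1), (23, 1), (29, 1), (31, 1), (41, 1), (47, 1), (59, 1), (71, 1)]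

theorem v_m : valid l_m 808017424794512875886459904961710757005754368000000000 = true := by decide +kernel

theorem m_m : chkM 808017424794512875886459904961710757005754368000000000 l_m 46 [59, 71] = true := by decide +kernel

theorem t_m : chkT 46 [59, 71] = true := by decide +kernel

theorem j_m : chkJ 808017424794512875886459904961710757005754368000000000 1 [59, 71] = true := by decide +kernel

theorem r_m : chkR 808017424794512875886459904961710757005754368000000000 l_m 46 1 59 = true := by decide +kernel

/-- the factorization -/
def l_j4 : List (ℕ × ℕ) := [(2, 21), (3, 3), (5, 1), (7, 1), (11, 3), (23, 1), (29, 1), (31, 1), (37, 1), (43, 1)]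

theorem v_j4 : valid l_j4 86775571046077562880 = true := by decide +kernel

theorem m_j4 : chkM 86775571046077562880 l_j4 21 [37, 29] = true := by decide +kernel

theorem t_j4 : chkT 21 [37, 29] = true := by decide +kernel

theorem j_j4 : chkJ 86775571046077562880 2 [37, 29] = true := by decide +kernel

theorem r_j4 : chkR 86775571046077562880 l_j4 21 2 37 = true := by decide +kernel

end Cfsg.Agent.H547.PP.Tab2
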