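import Cfsg.Agent.H547.PP.NoIdx
import Cfsg.Agent.H547.PP.TablesTwo
import Cfsg.Agent.H547.PP.FarSmall
import Cfsg.Agent.H547.PP.FarBaby
import Cfsg.Agent.H393.Iso.McLLy
import Cfsg.Agent.H393.Iso.Monster
import Cfsg.Agent.NotCT.Orders

/-!
# `O'N`, `Ly`, `Th`, `B`, `M` have no subgroup of index `p ^ k`, `k ≥ 2` (helper547)
-/

set_option autoImplicit false

namespace Cfsg.Agent.H547.PP.RowsTwo

open Subgroup Cfsg Cfsg.Agent.OrdDiv Cfsg.Agent.H547.PP.Tab2 Cfsg.Agent.H393.Iso

universe u

variable (T : OrderTable.{0}) (hS : ∀ (X : Type) [Group X] [Finite X] [IsSimpleGroup X], IsKnownSimple' X)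
  {G : Type u} [Group G] (hs : IsSimpleGroup G)
include T hS hs

theorem on (h : Spor.IsoON G) : NoIdx G := by
  obtain ⟨e⟩ := h
  have hn : Nat.card Spor.ON = 460815505920 := NotCT.Orders.on ⟨MulEquiv.refl _⟩
  have hf : Finite Spor.ON := Nat.finite_of_card_ne_zero (by rw [hn]; norm_num)
  refine NoIdx.congr e (noIdx_two T hS ((MulEquiv.isSimpleGroup_congr e).1 hs) hn v_on j_on ?_ (r₀ := 11)
    (by decide) (by norm_num) (by norm_num) (by norm_num) m_on t_on r_on)
  intro r hr g
  simp only [List.mem_cons, List.not_mem_nil, or_false] at hr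
  rcases hr with rfl | rfl | rfl
  · exact (FarSmall.na_on (by norm_num)).ne_two_mul (by norm_num) g
  · exact (FarSmall.na_on (by norm_num)).ne_two_mul (by norm_num) g
  · exact (FarSmall.na_on (by norm_num)).ne_two_mul (by norm_num) g

theorem th (h : Spor.IsoTh G) : NoIdx G := by
  obtain ⟨e⟩ := h
  have hn : Nat.card Spor.Th = 90745943887872000 := NotCT.Orders.th ⟨MulEquiv.refl _⟩
  have hf : Finite Spor.Th := Nat.finite_of_card_ne_zero (by rw [hn]; norm_num)
  refine NoIdx.congr e (noIdx_two T hS ((MulEquiv.isSimpleGroup_congr e).1 hs) hn v_th j_th ?_ (r₀ := 19)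
    (by decide) (by norm_num) (by norm_num) (by norm_num) m_th t_th r_th)
  intro r hr g
  simp only [List.mem_cons, List.not_mem_nil, or_false] at hr
  rcases hr with rfl | rfl
  · exact (FarSmall.na_th (by norm_num)).ne_two_mul (by norm_num) g
  · exact (FarSmall.na_th (by norm_num)).ne_two_mul (by norm_num) g

theorem ly (h : Spor.IsoLy G) : NoIdx G := by
  obtain ⟨e⟩ := h
  have hn : Nat.card Spor.Ly = 51765179004000000 := NotCT.Orders.ly ⟨MulEquiv.refl _⟩
  have hf : Finite Spor.Ly := Nat.finite_of_card_ne_zero (by rw [hn]; norm_num)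
  refine NoIdx.congr e (noIdx_two T hS ((MulEquiv.isSimpleGroup_congr e).1 hs) hn v_ly j_ly ?_ (r₀ := 67)
    (by decide) (by norm_num) (by norm_num) (by norm_num) m_ly t_ly r_ly)
  intro r hr g
  simp only [List.mem_cons, List.not_mem_nil, or_false] at hr
  subst hr
  exact (na_ly ⟨MulEquiv.refl Spor.Ly⟩).ne_two_mul (by norm_num) g

theorem b (h : Spor.IsoB G) : NoIdx G := by
  obtain ⟨e⟩ := h
  have hn : Nat.card Spor.BabyMonster = 4154781481226426191177580544000000 := NotCT.Orders.b ⟨MulEquiv.refl _⟩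
  have hf : Finite Spor.BabyMonster := Nat.finite_of_card_ne_zero (by rw [hn]; norm_num)
  refine NoIdx.congr e (noIdx_two T hS ((MulEquiv.isSimpleGroup_congr e).1 hs) hn v_b j_b ?_ (r₀ := 47)
    (by decide) (by norm_num) (by norm_num) (by norm_num) m_b t_b r_b)
  intro r hr g
  simp only [List.mem_cons, List.not_mem_nil, or_false] at hr
  rcases hr with rfl | rfl
  · exact (FarBaby.na_b (by norm_num) (by norm_num) (by norm_num) (by norm_num)).ne_two_mul (by norm_num) g
  · exact (FarBaby.na_b (by norm_num) (by norm_num) (by norm_num) (by norm_num)).ne_two_mul (by norm_num) g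

theorem m (h : Spor.IsoM G) : NoIdx G := by
  obtain ⟨e⟩ := h
  have hn : Nat.card Spor.Monster = 808017424794512875886459904961710757005754368000000000 :=
    NotCT.Orders.m ⟨MulEquiv.refl _⟩
  have hf : Finite Spor.Monster := Nat.finite_of_card_ne_zero (by rw [hn]; norm_num)
  refine NoIdx.congr e (noIdx_two T hS ((MulEquiv.isSimpleGroup_congr e).1 hs) hn v_m j_m ?_ (r₀ := 59)
    (by decide) (by norm_num) (by norm_num) (by norm_num) m_m t_m r_m)
  intro r hr g
  simp only [List.mem_cons, List.not_mem_nil, or_false] at hr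
  rcases hr with rfl | rfl
  · exact (na_m ⟨MulEquiv.refl Spor.Monster⟩ (Or.inr (Or.inl rfl))).ne_two_mul (by norm_num) g
  · exact (na_m ⟨MulEquiv.refl Spor.Monster⟩ (Or.inr (Or.inr rfl))).ne_two_mul (by norm_num) g

end Cfsg.Agent.H547.PP.RowsTwo
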