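import Cfsg.Agent.H547.PP.Engine

/-!
# The tables of the engine `no_idx` for the sporadic groups and the Tits group (helper547)
-/

set_option autoImplicit false
set_option maxRecDepth 100000
set_option exponentiation.threshold 1000

namespace Cfsg.Agent.H547.PP.Tab

open Cfsg.Agent.OrdDiv

/-- the factorization -/
def l_m11 : List (ℕ × ℕ) := [(2, 4), (3, 2), (5, 1), (11, 1)]

/-- the orders -/
def O_m11 : List ℕ := [660, 7920]

theorem v_m11 : valid l_m11 7920 = true := by decide +kernel

theorem o_m11 : chkO 7920 l_m11 11 O_m11 = true := by decide +kernel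

theorem c_m11 : chkAll 7920 l_m11 11 O_m11 = true := by decide +kernel

/-- the factorization -/
def l_m12 : List (ℕ × ℕ) := [(2, 6), (3, 3), (5, 1), (11, 1)]

/-- the orders -/
def O_m12 : List ℕ := [660, 7920, 95040]

theorem v_m12 : valid l_m12 95040 = true := by decide +kernel

theorem o_m12 : chkO 95040 l_m12 11 O_m12 = true := by decide +kernel

theorem c_m12 : chkAll 95040 l_m12 11 O_m12 = true := by decide +kernel

/-- the factorization -/
def l_m22 : List (ℕ × ℕ) := [(2, 7), (3, 2), (5, 1), (7, 1), (11, 1)]

/-- the orders -/
def O_m22 : List ℕ := [660, 7920, 443520]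

theorem v_m22 : valid l_m22 443520 = true := by decide +kernel

theorem o_m22 : chkO 443520 l_m22 11 O_m22 = true := by decide +kernel

theorem c_m22 : chkAll 443520 l_m22 11 O_m22 = true := by decide +kernel

/-- the factorization -/
def l_m23 : List (ℕ × ℕ) := [(2, 7), (3, 2), (5, 1), (7, 1), (11, 1), (23, 1)]

/-- the orders -/
def O_m23 : List ℕ := [6072, 10200960]

theorem v_m23 : valid l_m23 10200960 = true := by decide +kernel

theorem o_m23 : chkO 10200960 l_m23 23 O_m23 = true := by decide +kernel

theorem c_m23 : chkAll 10200960 l_m23 23 O_m23 = true := by decide +kernel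

/-- the factorization -/
def l_m24 : List (ℕ × ℕ) := [(2, 10), (3, 3), (5, 1), (7, 1), (11, 1), (23, 1)]

/-- the orders -/
def O_m24 : List ℕ := [6072, 10200960, 244823040]

theorem v_m24 : valid l_m24 244823040 = true := by decide +kernel

theorem o_m24 : chkO 244823040 l_m24 23 O_m24 = true := by decide +kernel

theorem c_m24 : chkAll 244823040 l_m24 23 O_m24 = true := by decide +kernel

/-- the factorization -/
def l_j1 : List (ℕ × ℕ) := [(2, 3), (3, 1), (5, 1), (7, 1), (11, 1), (19, 1)]

/-- the orders -/
def O_j1 : List ℕ := [660, 175560]

theorem v_j1 : valid l_j1 175560 = true := by decide +kernel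

theorem o_j1 : chkO 175560 l_j1 11 O_j1 = true := by decide +kernel

theorem c_j1 : chkAll 175560 l_j1 11 O_j1 = true := by decide +kernel

/-- the factorization -/
def l_j2 : List (ℕ × ℕ) := [(2, 7), (3, 3), (5, 2), (7, 1)]

/-- the orders -/
def O_j2 : List ℕ := [168, 504, 2520, 6048, 20160, 604800]

theorem v_j2 : valid l_j2 604800 = true := by decide +kernel

theorem o_j2 : chkO 604800 l_j2 7 O_j2 = true := by decide +kernel

theorem c_j2 : chkAll 604800 l_j2 7 O_j2 = true := by decide +kernel

/-- the factorization -/
def l_j3 : List (ℕ × ℕ) := [(2, 7), (3, 5), (5, 1), (17, 1), (19, 1)]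

/-- the orders -/
def O_j3 : List ℕ := [3420, 50232960]

theorem v_j3 : valid l_j3 50232960 = true := by decide +kernel

theorem o_j3 : chkO 50232960 l_j3 19 O_j3 = true := by decide +kernel

theorem c_j3 : chkAll 50232960 l_j3 19 O_j3 = true := by decide +kernel

/-- the factorization -/
def l_j4 : List (ℕ × ℕ) := [(2, 21), (3, 3), (5, 1), (7, 1), (11, 3), (23, 1), (29, 1), (31, 1), (37, 1), (43, 1)]

/-- the orders -/
def O_j4 : List ℕ := [39732, 86775571046077562880]

theorem v_j4 : valid l_j4 86775571046077562880 = true := by decide +kernel

theorem o_j4 : chkO 86775571046077562880 l_j4 43 O_j4 = true := by decide +kernel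

theorem c_j4 : chkAll 86775571046077562880 l_j4 43 O_j4 = true := by decide +kernel

/-- the factorization -/
def l_hs : List (ℕ × ℕ) := [(2, 9), (3, 2), (5, 3), (7, 1), (11, 1)]

/-- the orders -/
def O_hs : List ℕ := [660, 7920, 443520, 44352000]

theorem v_hs : valid l_hs 44352000 = true := by decide +kernel

theorem o_hs : chkO 44352000 l_hs 11 O_hs = true := by decide +kernel

theorem c_hs : chkAll 44352000 l_hs 11 O_hs = true := by decide +kernel

/-- the factorization -/
def l_mcl : List (ℕ × ℕ) := [(2, 7), (3, 6), (5, 3), (7, 1), (11, 1)]

/-- the orders -/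
def O_mcl : List ℕ := [660, 7920, 95040, 443520, 19958400, 898128000]

theorem v_mcl : valid l_mcl 898128000 = true := by decide +kernel

theorem o_mcl : chkO 898128000 l_mcl 11 O_mcl = true := by decide +kernel

theorem c_mcl : chkAll 898128000 l_mcl 11 O_mcl = true := by decide +kernel

/-- the factorization -/
def l_suz : List (ℕ × ℕ) := [(2, 13), (3, 7), (5, 2), (7, 1), (11, 1), (13, 1)]

/-- the orders -/
def O_suz : List ℕ := [1092, 5616, 7800, 9828, 29120, 62400, 262080, 4245696, 6065280, 17971200, 42456960, 251596800, 3113510400, 448345497600]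

theorem v_suz : valid l_suz 448345497600 = true := by decide +kernel

theorem o_suz : chkO 448345497600 l_suz 13 O_suz = true := by decide +kernel

theorem c_suz : chkAll 448345497600 l_suz 13 O_suz = true := by decide +kernel

/-- the factorization -/
def l_co1 : List (ℕ × ℕ) := [(2, 21), (3, 9), (5, 4), (7, 2), (11, 1), (13, 1), (23, 1)]

/-- the orders -/
def O_co1 : List ℕ := [6072, 10200960, 244823040, 495766656000, 42305421312000, 4157776806543360000]

theorem v_co1 : valid l_co1 4157776806543360000 = true := by decide +kernel

theorem o_co1 : chkO 4157776806543360000 l_co1 23 O_co1 = true := by decide +kernel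

theorem c_co1 : chkAll 4157776806543360000 l_co1 23 O_co1 = true := by decide +kernel

/-- the factorization -/
def l_co2 : List (ℕ × ℕ) := [(2, 18), (3, 6), (5, 3), (7, 1), (11, 1), (23, 1)]

/-- the orders -/
def O_co2 : List ℕ := [6072, 10200960, 244823040, 42305421312000]

theorem v_co2 : valid l_co2 42305421312000 = true := by decide +kernel

theorem o_co2 : chkO 42305421312000 l_co2 23 O_co2 = true := by decide +kernel

theorem c_co2 : chkAll 42305421312000 l_co2 23 O_co2 = true := by decide +kernel

/-- the factorization -/
def l_co3 : List (ℕ × ℕ) := [(2, 10), (3, 7), (5, 3), (7, 1), (11, 1), (23, 1)]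

/-- the orders -/
def O_co3 : List ℕ := [6072, 10200960, 244823040, 495766656000]

theorem v_co3 : valid l_co3 495766656000 = true := by decide +kernel

theorem o_co3 : chkO 495766656000 l_co3 23 O_co3 = true := by decide +kernel

theorem c_co3 : chkAll 495766656000 l_co3 23 O_co3 = true := by decide +kernel

/-- the factorization -/
def l_he : List (ℕ × ℕ) := [(2, 10), (3, 3), (5, 2), (7, 3), (17, 1)]

/-- the orders -/
def O_he : List ℕ := [2448, 4080, 979200, 4030387200]

theorem v_he : valid l_he 4030387200 = true := by decide +kernel

theorem o_he : chkO 4030387200 l_he 17 O_he = true := by decide +kernel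

theorem c_he : chkAll 4030387200 l_he 17 O_he = true := by decide +kernel

/-- the factorization -/
def l_ru : List (ℕ × ℕ) := [(2, 14), (3, 3), (5, 3), (7, 1), (13, 1), (29, 1)]

/-- the orders -/
def O_ru : List ℕ := [12180, 145926144000]

theorem v_ru : valid l_ru 145926144000 = true := by decide +kernel

theorem o_ru : chkO 145926144000 l_ru 29 O_ru = true := by decide +kernel

theorem c_ru : chkAll 145926144000 l_ru 29 O_ru = true := by decide +kernel

/-- the factorization -/
def l_fi22 : List (ℕ × ℕ) := [(2, 17), (3, 9), (5, 2), (7, 1), (11, 1), (13, 1)]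

/-- the orders -/
def O_fi22 : List ℕ := [1092, 5616, 7800, 9828, 29120, 62400, 262080, 4245696, 6065280, 17971200, 42456960, 251596800, 3113510400, 4585351680, 448345497600, 64561751654400]

theorem v_fi22 : valid l_fi22 64561751654400 = true := by decide +kernel

theorem o_fi22 : chkO 64561751654400 l_fi22 13 O_fi22 = true := by decide +kernel

theorem c_fi22 : chkAll 64561751654400 l_fi22 13 O_fi22 = true := by decide +kernel

/-- the factorization -/
def l_fi23 : List (ℕ × ℕ) := [(2, 18), (3, 13), (5, 2), (7, 1), (11, 1), (13, 1), (17, 1), (23, 1)]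

/-- the orders -/
def O_fi23 : List ℕ := [6072, 10200960, 244823040, 4089470473293004800]

theorem v_fi23 : valid l_fi23 4089470473293004800 = true := by decide +kernel

theorem o_fi23 : chkO 4089470473293004800 l_fi23 23 O_fi23 = true := by decide +kernel

theorem c_fi23 : chkAll 4089470473293004800 l_fi23 23 O_fi23 = true := by decide +kernel

/-- the factorization -/
def l_fi24 : List (ℕ × ℕ) := [(2, 21), (3, 16), (5, 2), (7, 3), (11, 1), (13, 1), (17, 1), (23, 1), (29, 1)]

/-- the orders -/
def O_fi24 : List ℕ := [12180, 1255205709190661721292800]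

theorem v_fi24 : valid l_fi24 1255205709190661721292800 = true := by decide +kernel

theorem o_fi24 : chkO 1255205709190661721292800 l_fi24 29 O_fi24 = true := by decide +kernel

theorem c_fi24 : chkAll 1255205709190661721292800 l_fi24 29 O_fi24 = true := by decide +kernel

/-- the factorization -/
def l_hn : List (ℕ × ℕ) := [(2, 14), (3, 6), (5, 6), (7, 1), (11, 1), (19, 1)]

/-- the orders -/
def O_hn : List ℕ := [3420, 175560, 5515776, 273030912000000]

theorem v_hn : valid l_hn 273030912000000 = true := by decide +kernel

theorem o_hn : chkO 273030912000000 l_hn 19 O_hn = true := by decide +kernel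

theorem c_hn : chkAll 273030912000000 l_hn 19 O_hn = true := by decide +kernel

/-- the factorization -/
def l_tits : List (ℕ × ℕ) := [(2, 11), (3, 3), (5, 2), (13, 1)]

/-- the orders -/
def O_tits : List ℕ := [5616, 7800, 62400, 17971200]

theorem v_tits : valid l_tits 17971200 = true := by decide +kernel

theorem o_tits : chkO 17971200 l_tits 13 O_tits = true := by decide +kernel

theorem c_tits : chkAll 17971200 l_tits 13 O_tits = true := by decide +kernel

/-- the factorization -/
def l_ly : List (ℕ × ℕ) := [(2, 8), (3, 7), (5, 6), (7, 1), (11, 1), (31, 1), (37, 1), (67, 1)]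

/-- the orders -/
def O_ly : List ℕ := [51765179004000000]

theorem v_ly : valid l_ly 51765179004000000 = true := by decide +kernel

theorem o_ly : chkO 51765179004000000 l_ly 67 O_ly = true := by decide +kernel

theorem c_ly : chkAll 51765179004000000 l_ly 67 O_ly = true := by decide +kernel

/-- the factorization -/
def l_ly37 : List (ℕ × ℕ) := [(2, 8), (3, 7), (5, 6), (7, 1), (11, 1), (31, 1), (37, 1), (67, 1)]

/-- the orders -/
def O_ly37 : List ℕ := [51765179004000000]

theorem v_ly37 : valid l_ly37 51765179004000000 = true := by decide +kernel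

theorem o_ly37 : chkO 51765179004000000 l_ly37 37 O_ly37 = true := by decide +kernel

theorem c_ly37 : chkAll 51765179004000000 l_ly37 37 O_ly37 = true := by decide +kernel

/-- the factorization -/
def l_on : List (ℕ × ℕ) := [(2, 9), (3, 4), (5, 1), (7, 3), (11, 1), (19, 1), (31, 1)]

/-- the orders -/
def O_on : List ℕ := [14880, 32736, 460815505920]

theorem v_on : valid l_on 460815505920 = true := by decide +kernel

theorem o_on : chkO 460815505920 l_on 31 O_on = true := by decide +kernel

theorem c_on : chkAll 460815505920 l_on 31 O_on = true := by decide +kernel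

/-- the factorization -/
def l_th : List (ℕ × ℕ) := [(2, 15), (3, 10), (5, 3), (7, 2), (13, 1), (19, 1), (31, 1)]

/-- the orders -/
def O_th : List ℕ := [3420, 5515776, 90745943887872000]

theorem v_th : valid l_th 90745943887872000 = true := by decide +kernel

theorem o_th : chkO 90745943887872000 l_th 19 O_th = true := by decide +kernel

theorem c_th : chkAll 90745943887872000 l_th 19 O_th = true := by decide +kernel

/-- the factorization -/
def l_b : List (ℕ × ℕ) := [(2, 41), (3, 13), (5, 6), (7, 2), (11, 1), (13, 1), (17, 1), (19, 1), (23, 1), (31, 1), (47, 1)]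

/-- the orders -/
def O_b : List ℕ := [51888, 4154781481226426191177580544000000]

theorem v_b : valid l_b 4154781481226426191177580544000000 = true := by decide +kernel

theorem o_b : chkO 4154781481226426191177580544000000 l_b 47 O_b = true := by decide +kernel

theorem c_b : chkAll 4154781481226426191177580544000000 l_b 47 O_b = true := by decide +kernel

/-- the factorization -/
def l_m : List (ℕ × ℕ) := [(2, 46), (3, 20), (5, 9), (7, 6), (11, 2), (13, 3), (17, 1), (19, 1), (23, 1), (29, 1), (31, 1), (41, 1), (47, 1), (59, 1), (71, 1)]

/-- the orders -/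
def O_m : List ℕ := [178920, 808017424794512875886459904961710757005754368000000000]

theorem v_m : valid l_m 808017424794512875886459904961710757005754368000000000 = true := by decide +kernel

theorem o_m : chkO 808017424794512875886459904961710757005754368000000000 l_m 71 O_m = true := by decide +kernel

theorem c_m : chkAll 808017424794512875886459904961710757005754368000000000 l_m 71 O_m = true := by decide +kernel

/-- the factorization -/
def l_m59 : List (ℕ × ℕ) := [(2, 46), (3, 20), (5, 9), (7, 6), (11, 2), (13, 3), (17, 1), (19, 1), (23, 1), (29, 1), (31, 1), (41, 1), (47, 1), (59, 1), (71, 1)]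

/-- the orders -/
def O_m59 : List ℕ := [102660, 808017424794512875886459904961710757005754368000000000]

theorem v_m59 : valid l_m59 808017424794512875886459904961710757005754368000000000 = true := by decide +kernel

theorem o_m59 : chkO 808017424794512875886459904961710757005754368000000000 l_m59 59 O_m59 = true := by decide +kernel

theorem c_m59 : chkAll 808017424794512875886459904961710757005754368000000000 l_m59 59 O_m59 = true := by decide +kernel

end Cfsg.Agent.H547.PP.Tab
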