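import Cfsg.Agent.H547.PP.Struct
import Cfsg.Agent.H547.SelfCent.Base
import Cfsg.Agent.H361.SelfCent
import Cfsg.Agent.Lib.MinNormal
import Cfsg.Agent.Lib.SubnormalJoin

/-!
# Groups without elements of order `2 r` (helper547)

`NE r X` : no element of order `2 r`, `r` an odd prime dividing `|X|` once.
-/

set_option autoImplicit false

namespace Cfsg.Agent.H547.PP

open Subgroup Cfsg.Agent.H702.TF Cfsg.Agent.H547.SelfCent

/-- no element of order `2 r` -/
def NE (r : ℕ) (X : Type*) [Group X] : Prop := ∀ g : X, orderOf g ≠ 2 * r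

section

variable {X : Type*} [Group X] [Finite X] {r : ℕ}

theorem NE.quot (h : NE r X) (N : Subgroup X) [N.Normal] : NE r (X ⧸ N) := by
  intro y hy
  obtain ⟨x, rfl⟩ := QuotientGroup.mk'_surjective N y
  have h1 : 2 * r ∣ orderOf x := by
    rw [← hy]
    exact orderOf_map_dvd (QuotientGroup.mk' N) x
  obtain ⟨k, hk⟩ := h1
  have hx0 : orderOf x ≠ 0 := (orderOf_pos x).ne'
  have hk0 : k ≠ 0 := by
    rintro rfl
    exact hx0 (by rw [hk, mul_zero])
  refine h (x ^ k) ?_
  rw [orderOf_pow_of_dvd hk0 ⟨2 * r, by rw [hk, mul_comm]⟩, hk, Nat.mul_div_cancel _ (Nat.pos_of_ne_zero hk0)]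

omit [Finite X] in
theorem NE.sub (h : NE r X) (H : Subgroup X) : NE r H := by
  intro y hy
  exact h y (by rw [orderOf_coe, hy])

omit [Finite X] in
theorem NE.false (h : NE r X) (hr : r.Prime) (hr2 : r ≠ 2) {x t : X} (hx : orderOf x = r) (ht : orderOf t = 2)
    (hc : Commute x t) : False := by
  apply h (x * t)
  rw [hc.orderOf_mul_eq_mul_orderOf_of_coprime, hx, ht, mul_comm]
  rw [hx, ht]
  exact (Nat.coprime_primes hr Nat.prime_two).2 hr2

theorem NE.odd_cent (h : NE r X) (hr : r.Prime) (hr2 : r ≠ 2) {x : X} (hx : orderOf x = r) :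
    ¬ 2 ∣ Nat.card (centralizer ({x} : Set X)) := by
  intro h2
  have : Fact (Nat.Prime 2) := ⟨Nat.prime_two⟩
  obtain ⟨t, ht⟩ := exists_prime_orderOf_dvd_card' 2 h2
  exact h.false hr hr2 hx (by rw [Subgroup.orderOf_coe, ht] : orderOf (t : X) = 2)
    (show x * t = t * x from (mem_centralizer_singleton_iff.1 t.2).symm)

/-- the 2-part of the normalizer of a subgroup of order `r` -/
theorem NE.two_dvd (h : NE r X) (hr : r.Prime) (hr2 : r ≠ 2) (hsq : ¬ r * r ∣ Nat.card X) {x : X} (hx : orderOf x = r)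
    {b : ℕ} (hb : 2 ^ b ∣ Nat.card (normalizer (zpowers x : Set X))) : 2 ^ b ∣ r - 1 := by
  obtain ⟨e, he, -, -, hN, -⟩ := arith hr hx hsq
  rw [hN] at hb
  refine Dvd.dvd.trans ?_ he
  refine Nat.Coprime.dvd_of_dvd_mul_left ?_ hb
  exact Nat.Coprime.pow_left _ ((Nat.Prime.coprime_iff_not_dvd Nat.prime_two).2 (h.odd_cent hr hr2 hx))

/-- Frattini -/
theorem index_dvd (hr : r.Prime) (hsq : ¬ r * r ∣ Nat.card X) (N : Subgroup X) [N.Normal] {x : X} (hx : orderOf x = r)
    (hxN : x ∈ N) : N.index ∣ Nat.card (normalizer (zpowers x : Set X)) := by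
  have : Fact r.Prime := ⟨hr⟩
  let x' : N := ⟨x, hxN⟩
  have hx' : orderOf x' = r := by rw [← hx]; exact Subgroup.orderOf_mk x hxN
  have hc : Nat.card (zpowers x') = r := by rw [Nat.card_zpowers, hx']
  have hP : IsPGroup r (zpowers x') := IsPGroup.of_card (n := 1) (by rw [hc, pow_one])
  have hidx : ¬ r ∣ (zpowers x').index := by
    intro h4
    apply hsq
    refine Dvd.dvd.trans ?_ (card_subgroup_dvd_card N)
    rw [← card_mul_index (zpowers x'), hc]
    exact mul_dvd_mul_left _ h4
  have hmap : ((hP.toSylow hidx : Sylow r N) : Subgroup N).map N.subtype = zpowers x := by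
    change (zpowers x').map N.subtype = _
    rw [MonoidHom.map_zpowers]
    rfl
  have hfr := Sylow.normalizer_sup_eq_top (hP.toSylow hidx)
  rw [hmap] at hfr
  have h3 : N.relIndex (normalizer (zpowers x : Set X) ⊔ N) = N.relIndex (normalizer (zpowers x : Set X)) :=
    Subgroup.relIndex_sup_right _ _
  rw [hfr, Subgroup.relIndex_top_right] at h3
  rw [h3]
  exact relIndex_dvd_card _ _

/-- a Sylow subgroup of a normal `r'`-subgroup normalized by an element of order `r` -/
theorem exists_norm (hr : r.Prime) (hrX : r ∣ Nat.card X) (N : Subgroup X) [hN : N.Normal] (hrN : ¬ r ∣ Nat.card N)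
    {q : ℕ} (hq : q.Prime) : ∃ (Q : Subgroup X) (y : X), Q ≤ N ∧ Nat.card Q = q ^ (Nat.card N).factorization q ∧
      orderOf y = r ∧ y ∈ normalizer (Q : Set X) := by
  have : Fact r.Prime := ⟨hr⟩
  have : Fact q.Prime := ⟨hq⟩
  let R : Sylow q N := default
  have hfr := Sylow.normalizer_sup_eq_top R
  set R' : Subgroup X := (R : Subgroup N).map N.subtype with hR'
  have h1 : r ∣ Nat.card (normalizer (R' : Set X)) := by
    by_contra hno
    have h2 : Nat.card X ∣ Nat.card (normalizer (R' : Set X)) * Nat.card N := by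
      have h3 : N.relIndex (normalizer (R' : Set X) ⊔ N) = N.relIndex (normalizer (R' : Set X)) :=
        Subgroup.relIndex_sup_right _ _
      rw [hfr, Subgroup.relIndex_top_right] at h3
      rw [← N.card_mul_index, h3, mul_comm]
      exact Nat.mul_dvd_mul_right (Subgroup.relIndex_dvd_card _ _) _
    rcases (Nat.Prime.dvd_mul hr).1 (hrX.trans h2) with h5 | h5
    · exact hno h5
    · exact hrN h5
  obtain ⟨⟨y, hyN⟩, hy⟩ := exists_prime_orderOf_dvd_card' r h1
  refine ⟨R', y, map_subtype_le _, ?_, by rw [← hy]; exact (Subgroup.orderOf_mk y hyN).symm, hyN⟩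
  rw [hR', card_map_of_injective N.subtype_injective, R.card_eq_multiplicity]

/-- fixed points of an element of order `r` on a subgroup -/
theorem fix_modEq (hr : r.Prime) {Q : Subgroup X} {y : X} (hy : orderOf y = r) (hyQ : y ∈ normalizer (Q : Set X)) :
    Nat.card Q ≡ Nat.card (Q ⊓ centralizer ({y} : Set X) : Subgroup X) [MOD r] := by
  have hconj : ∀ w : X, w ∈ Q ↔ y * w * y⁻¹ ∈ Q := mem_normalizer_iff.1 hyQ
  let f : Equiv.Perm Q :=
    { toFun := fun w => ⟨y * w * y⁻¹, (hconj w).1 w.2⟩
      invFun := fun w => ⟨y⁻¹ * w * y, (hconj _).2 (by simp [mul_assoc])⟩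
      left_inv := fun w => Subtype.ext (by simp [mul_assoc])
      right_inv := fun w => Subtype.ext (by simp [mul_assoc]) }
  have hfk : ∀ k : ℕ, ∀ w : Q, (((f ^ k) w : Q) : X) = y ^ k * w * (y ^ k)⁻¹ := by
    intro k
    induction k with
    | zero => intro w; simp
    | succ k ih =>
      intro w
      rw [pow_succ', Equiv.Perm.mul_apply]
      show y * ((f ^ k) w : Q) * y⁻¹ = _
      rw [ih, pow_succ']
      group
  have hf : f ^ r = 1 := by
    ext w
    rw [hfk, ← hy, pow_orderOf_eq_one]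
    simp
  have h6 := H361.SelfCent.card_modEq_of_perm hr f hf
  have h7 : Nat.card {a : Q // f a = a} = Nat.card (Q ⊓ centralizer ({y} : Set X) : Subgroup X) := by
    refine Nat.card_congr
      { toFun := fun a => ⟨a.1, mem_inf.2 ⟨a.1.2, ?_⟩⟩
        invFun := fun b => ⟨⟨b.1, (mem_inf.1 b.2).1⟩, ?_⟩
        left_inv := fun a => rfl
        right_inv := fun b => rfl }
    · rw [mem_centralizer_singleton_iff]
      have h9 : y * (a.1 : X) * y⁻¹ = a.1 := congrArg Subtype.val a.2
      calc (a.1 : X) * y = (y * (a.1 : X) * y⁻¹) * y := by rw [h9]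
        _ = y * a.1 := by group
    · apply Subtype.ext
      change y * (b : X) * y⁻¹ = b
      have h9 := mem_centralizer_singleton_iff.1 (mem_inf.1 b.2).2
      rw [← h9]
      group
  rwa [h7] at h6

/-- the 2-part of a normal `r'`-subgroup -/
theorem NE.two_mod (h : NE r X) (hr : r.Prime) (hr2 : r ≠ 2) (hrX : r ∣ Nat.card X) (N : Subgroup X) [hN : N.Normal]
    (hrN : ¬ r ∣ Nat.card N) : 2 ^ (Nat.card N).factorization 2 % r = 1 := by
  obtain ⟨Q, y, -, hQ, hy, hyQ⟩ := exists_norm hr hrX N hrN Nat.prime_two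
  have h1 := fix_modEq hr hy hyQ
  have h2 : Nat.card (Q ⊓ centralizer ({y} : Set X) : Subgroup X) = 1 := by
    have h3 : Nat.card (Q ⊓ centralizer ({y} : Set X) : Subgroup X) ∣ 2 ^ (Nat.card N).factorization 2 := by
      rw [← hQ]
      exact card_dvd_of_le inf_le_left
    obtain ⟨c, -, hc⟩ := (Nat.dvd_prime_pow Nat.prime_two).1 h3
    rcases Nat.eq_zero_or_pos c with h4 | h4
    · rw [hc, h4, pow_zero]
    · exfalso
      apply h.odd_cent hr hr2 hy
      refine Dvd.dvd.trans ?_ (card_dvd_of_le (inf_le_right : Q ⊓ centralizer ({y} : Set X) ≤ _))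
      rw [hc]
      exact dvd_pow_self 2 h4.ne'
  rw [h2, hQ] at h1
  have h3 : 2 ^ (Nat.card N).factorization 2 % r = 1 % r := h1
  rw [h3]
  exact Nat.mod_eq_of_lt hr.one_lt

/-- an element of order `r` centralizes a normal subgroup of suitable order -/
theorem centralizes (hr : r.Prime) (hsq : ¬ r * r ∣ Nat.card X) (V : Subgroup X) [hV : V.Normal]
    (hrV : ¬ r ∣ Nat.card V) (hq : ∀ q : ℕ, q.Prime → ∀ i, 1 ≤ i → q ^ i ∣ Nat.card V → q ^ i % r ≠ 1) {x : X}
    (hx : orderOf x = r) : ∀ v ∈ V, v * x = x * v := by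
  have hrX : r ∣ Nat.card X := by rw [← hx]; exact orderOf_dvd_natCard x
  have key : Nat.card V ∣ Nat.card (V ⊓ centralizer ({x} : Set X) : Subgroup X) := by
    rw [← Nat.factorization_prime_le_iff_dvd Nat.card_pos.ne' Nat.card_pos.ne']
    intro q hqp
    obtain ⟨Q, y, hQV, hQ, hy, hyQ⟩ := exists_norm hr hrX V hrV hqp
    have h1 := fix_modEq hr hy hyQ
    have h3 : Nat.card (Q ⊓ centralizer ({y} : Set X) : Subgroup X) ∣ q ^ (Nat.card V).factorization q := by
      rw [← hQ]
      exact card_dvd_of_le inf_le_left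
    obtain ⟨c, hcle, hc⟩ := (Nat.dvd_prime_pow hqp).1 h3
    have hca : c = (Nat.card V).factorization q := by
      by_contra hne
      have hlt : c < (Nat.card V).factorization q := lt_of_le_of_ne hcle hne
      apply hq q hqp ((Nat.card V).factorization q - c) (by omega)
        ((pow_dvd_pow q (Nat.sub_le _ _)).trans (Nat.ordProj_dvd _ _))
      rw [hc, hQ] at h1
      have h4 : q ^ c * q ^ ((Nat.card V).factorization q - c) ≡ q ^ c * 1 [MOD r] := by
        rw [mul_one, ← pow_add, show c + ((Nat.card V).factorization q - c) = (Nat.card V).factorization q by omega]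
        exact h1
      have hqr : r ≠ q := by
        rintro rfl
        apply hrV
        exact (dvd_pow_self r (by omega)).trans (Nat.ordProj_dvd (Nat.card V) r)
      have h5 : q ^ ((Nat.card V).factorization q - c) ≡ 1 [MOD r] := by
        apply Nat.ModEq.cancel_left_of_coprime _ h4
        exact Nat.Coprime.pow_right _ ((Nat.coprime_primes hr hqp).2 hqr)
      have h6 : q ^ ((Nat.card V).factorization q - c) % r = 1 % r := h5
      rw [h6]
      exact Nat.mod_eq_of_lt hr.one_lt
    rw [hca] at hc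
    -- transfer to `x`
    obtain ⟨g, hg1, hg2⟩ := exists_conj hr hsq hx hy
    have h7 : (Q ⊓ centralizer ({y} : Set X)).map (MulAut.conj g).toMonoidHom ≤ V ⊓ centralizer ({x} : Set X) := by
      rintro _ ⟨c', hc', rfl⟩
      have hc1 := mem_inf.1 hc'
      refine mem_inf.2 ⟨hV.conj_mem _ (hQV hc1.1) g, ?_⟩
      rw [mem_centralizer_singleton_iff]
      have h8 : Commute (g * c' * g⁻¹) (g * y * g⁻¹) := by
        have h9 := mem_centralizer_singleton_iff.1 hc1.2
        change g * c' * g⁻¹ * (g * y * g⁻¹) = g * y * g⁻¹ * (g * c' * g⁻¹)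
        calc g * c' * g⁻¹ * (g * y * g⁻¹) = g * (c' * y) * g⁻¹ := by group
          _ = g * (y * c') * g⁻¹ := by rw [h9]
          _ = _ := by group
      exact (commute_of_mem h8 hg2).eq
    have h8 := card_dvd_of_le h7
    rw [card_map_of_injective (MulAut.conj g).injective, hc] at h8
    exact (hqp.pow_dvd_iff_le_factorization Nat.card_pos.ne').1 h8
  have h1 : V ⊓ centralizer ({x} : Set X) = V := by
    apply Subgroup.eq_of_le_of_card_ge inf_le_left
    exact Nat.le_of_dvd Nat.card_pos key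
  intro v hv
  rw [← h1] at hv
  exact mem_centralizer_singleton_iff.1 (mem_inf.1 hv).2

/-- a minimal normal subgroup of order divisible by `r` is simple -/
theorem simple_of_min (hr : r.Prime) (hsq : ¬ r * r ∣ Nat.card X) (N : Subgroup X) [hN : N.Normal] (hN1 : N ≠ ⊥)
    (hmin : ∀ M : Subgroup X, M.Normal → M ≤ N → M = ⊥ ∨ M = N) (hrN : r ∣ Nat.card N) : IsSimpleGroup N := by
  obtain ⟨T, j, hTN, hT, hj, ⟨e⟩⟩ := Cfsg.Agent.Lib.MinNormal.exists_mulEquiv_pi N hN1 hmin
  have hc : Nat.card N = Nat.card T ^ j := by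
    rw [Nat.card_congr e.toEquiv, Nat.card_pi]
    simp
  have hrT : r ∣ Nat.card T := by
    rw [hc] at hrN
    exact hr.dvd_of_dvd_pow hrN
  have hj1 : j = 1 := by
    by_contra hj2
    apply hsq
    have h2 : r ^ j ∣ Nat.card N := by
      rw [hc]
      exact pow_dvd_pow_of_dvd hrT j
    rw [← pow_two]
    exact ((pow_dvd_pow r (by omega)).trans h2).trans (Subgroup.card_subgroup_dvd_card N)
  subst hj1
  have e2 : N ≃* T := e.trans
    { toFun := fun f => f 0
      invFun := fun t _ => t
      left_inv := fun f => by funext i; rw [Subsingleton.elim i 0]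
      right_inv := fun t => rfl
      map_mul' := fun f g => rfl }
  have hnt : Nontrivial N := (Subgroup.nontrivial_iff_ne_bot N).2 hN1
  exact IsSimpleGroup.isSimpleGroup_of_surjective e2.symm.toMonoidHom e2.symm.surjective

end

end Cfsg.Agent.H547.PP
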