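import Mathlib
import Cfsg.Agent.H702.Simple
import Cfsg.Agent.Lib.SolvableNormalP

/-!
# Structure of a group with a self-centralizing subgroup of prime order (helper547)

`struct` : `H` finite, `T` isolated of prime order `r` (helper702's `Iso`): `|H| = w r e` or `|H| = w |S| d` with `S`
a nonabelian simple section of order divisible by `r`, `d ∣ e = |N(T) : T|`, and every `s`-part of `w` is `1` modulo `r`.
-/

set_option autoImplicit false

namespace Cfsg.Agent.H547.PP

open Subgroup Cfsg.Agent.H702.TF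

variable {H : Type*} [Group H] [Finite H] {T : Subgroup H}

/-- no normal subgroup of coprime order in the quotient by the largest one -/
theorem quot_Ot {t : ℕ} (N : Subgroup (H ⧸ Ot t H)) (hN : N.Normal) (hc : (Nat.card N).Coprime t) : N = ⊥ := by
  have h1 : (N.comap (QuotientGroup.mk' (Ot t H))).Normal := hN.comap _
  have h2 : (Nat.card (N.comap (QuotientGroup.mk' (Ot t H)))).Coprime t := by
    rw [Lib.SolvableNormalP.card_comap_mk]
    exact Nat.Coprime.mul_left hc (Ot_coprime t H)
  have h3 := le_Ot h1 h2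
  rw [eq_bot_iff]
  intro x hx
  obtain ⟨y, rfl⟩ := QuotientGroup.mk'_surjective (Ot t H) x
  have h4 : y ∈ Ot t H := h3 hx
  rw [mem_bot]
  exact (QuotientGroup.eq_one_iff y).2 h4

/-- **the structure theorem** -/
theorem struct (h : Iso T) {r : ℕ} (hr : r.Prime) (hT : Nat.card T = r) :
    ∃ e w : ℕ, Nat.card (normalizer (T : Set H)) = r * e ∧ 0 < w ∧ (∀ s, s.Prime → r ∣ s ^ w.factorization s - 1) ∧
      (Nat.card H = w * (r * e) ∨ ∃ S : Subgroup (H ⧸ Ot r H), IsSimpleGroup S ∧ (¬ ∀ a b : S, a * b = b * a) ∧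
        r ∣ Nat.card S ∧ ∃ d, d ∣ e ∧ Nat.card H = w * (Nat.card S * d)) := by
  have hV : (Nat.card (Ot r H)).Coprime (Nat.card T) := by rw [hT]; exact Ot_coprime r H
  have hq := h.quot hV
  have hqT : Nat.card (T.map (QuotientGroup.mk' (Ot r H))) = r := by
    rw [card_map_mk (by rw [inf_comm]; exact Iso.inf_eq_bot hV), hT]
  have hqN := h.card_normalizer_quot hV
  have hT_le : r ∣ Nat.card (normalizer (T : Set H)) := by
    rw [← hT]
    exact card_dvd_of_le le_normalizer
  obtain ⟨e, he⟩ := hT_le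
  have hH : Nat.card H = Nat.card (Ot r H) * Nat.card (H ⧸ Ot r H) := by
    rw [card_eq_card_quotient_mul_card_subgroup (Ot r H), mul_comm]
  refine ⟨e, Nat.card (Ot r H), he, Nat.card_pos, fun s hs => ?_, ?_⟩
  · have h1 := h.dvd_fac hV hs
    rwa [hT] at h1
  · by_cases hTn : (T.map (QuotientGroup.mk' (Ot r H))).Normal
    · left
      rw [hH, ← he, ← hqN, normalizer_eq_top_iff.2 hTn, card_top]
    · right
      obtain ⟨S, hSn, hSs, hSna, q, hq1, hq2, hq3⟩ := hq.exists_simple (fun N hN hc => quot_Ot N hN (by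
        rwa [hqT] at hc)) hTn
      rw [hqT] at hq2
      have hqr : q = r := (Nat.prime_dvd_prime_iff_eq hq1 hr).1 hq2
      subst hqr
      refine ⟨S, hSs, hSna, hq3, ?_⟩
      have hTS := hq.le_simple hSna hq1 (by rw [hqT]) hq3
      have h1 := hq.relIndex_eq hTS
      have h2 : T.map (QuotientGroup.mk' (Ot q H)) ≤ normalizer (T.map (QuotientGroup.mk' (Ot q H)) : Set (H ⧸ Ot q H)) ⊓ S :=
        le_inf le_normalizer hTS
      have h3 := card_mul_index ((normalizer (T.map (QuotientGroup.mk' (Ot q H)) : Set (H ⧸ Ot q H))).subgroupOf S)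
      have h4 : Nat.card ((normalizer (T.map (QuotientGroup.mk' (Ot q H)) : Set (H ⧸ Ot q H))).subgroupOf S) =
          Nat.card (normalizer (T.map (QuotientGroup.mk' (Ot q H)) : Set (H ⧸ Ot q H)) ⊓ S : Subgroup _) := by
        rw [← inf_subgroupOf_right]
        exact Nat.card_congr (subgroupOfEquivOfLe inf_le_right).toEquiv
      have h5 : (normalizer (T.map (QuotientGroup.mk' (Ot q H)) : Set (H ⧸ Ot q H))).relIndex S =
        ((normalizer (T.map (QuotientGroup.mk' (Ot q H)) : Set (H ⧸ Ot q H))).subgroupOf S).index := rfl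
      rw [← h5, h1, h4] at h3
      have h6 := card_mul_index (normalizer (T.map (QuotientGroup.mk' (Ot q H)) : Set (H ⧸ Ot q H)))
      rw [hqN, he] at h6
      have h7 := card_mul_index S
      have h8 : q ∣ Nat.card (normalizer (T.map (QuotientGroup.mk' (Ot q H)) : Set (H ⧸ Ot q H)) ⊓ S : Subgroup _) := by
        have := card_dvd_of_le h2
        rwa [hqT] at this
      obtain ⟨c, hc⟩ := h8
      rw [hc] at h3
      set i := (normalizer (T.map (QuotientGroup.mk' (Ot q H)) : Set (H ⧸ Ot q H))).index with hi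
      have hi0 : 0 < i := Nat.pos_of_ne_zero index_ne_zero_of_finite
      refine ⟨S.index, ?_, by rw [card_mul_index, hH]⟩
      refine ⟨c, ?_⟩
      apply Nat.eq_of_mul_eq_mul_left (Nat.mul_pos hq1.pos hi0)
      calc q * i * e = q * e * i := by ring
        _ = Nat.card S * S.index := by rw [h6, h7]
        _ = q * i * (S.index * c) := by rw [← h3]; ring

end Cfsg.Agent.H547.PP
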