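import Cfsg.Agent.H547.PP.EngineTwo

/-!
# An involution with a large `q`-part of the centralizer (helper547)

`exists_invol` : `V` normal of odd order centralized by `x`, `S` a simple normal subgroup of `H / V` containing the image
of `x ∉ V`, `2 ^ v ≢ 1 (mod q)` for the 2-part `2 ^ v` of `|S|`: some involution `t` of `H` has `q ^ (a - b)` dividing
`|C(t)|`, `q ^ a ∣ |H|`, `q ^ b` the `q`-part of `|S|`.
-/

set_option autoImplicit false

namespace Cfsg.Agent.H547.PP

open Subgroup Cfsg.Agent.H702.TF Cfsg.Agent.OrdDiv Cfsg.Agent.H547.SelfCent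

section

variable {H : Type*} [Group H] [Finite H]

/-- a `q`-subgroup normalizing a Sylow 2-subgroup of the normal subgroup `S` and centralizing an involution of it -/
theorem exists_fixed (S : Subgroup H) [hS : S.Normal] {q : ℕ} (hq : q.Prime)
    (hmod : 2 ^ (Nat.card S).factorization 2 % q ≠ 1) :
    ∃ t ∈ S, orderOf t = 2 ∧
      (Nat.card H).factorization q ≤ (Nat.card (centralizer ({t} : Set H))).factorization q +
        (Nat.card S).factorization q := by
  have : Fact (Nat.Prime 2) := ⟨Nat.prime_two⟩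
  have : Fact q.Prime := ⟨hq⟩
  let R : Sylow 2 S := default
  have hfr := Sylow.normalizer_sup_eq_top R
  set P : Subgroup H := (R : Subgroup S).map S.subtype with hP
  set N : Subgroup H := normalizer (P : Set H) with hN
  have h2 : Nat.card H ∣ Nat.card N * Nat.card S := by
    have h3 : S.relIndex (N ⊔ S) = S.relIndex N := Subgroup.relIndex_sup_right _ _
    rw [hfr, Subgroup.relIndex_top_right] at h3
    rw [← S.card_mul_index, h3, mul_comm]
    exact Nat.mul_dvd_mul_right (Subgroup.relIndex_dvd_card _ _) _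
  have hPc : Nat.card P = 2 ^ (Nat.card S).factorization 2 := by
    rw [hP, card_map_of_injective S.subtype_injective, R.card_eq_multiplicity]
  let A : Sylow q N := default
  have hAc : Nat.card A = q ^ (Nat.card N).factorization q := A.card_eq_multiplicity
  -- the action of `A` on `P`
  have hconj : ∀ (a : A) (w : P), (a : H) * w * (a : H)⁻¹ ∈ P := fun a w =>
    (mem_normalizer_iff.1 (a.1.2 : ((a : N) : H) ∈ normalizer (P : Set H)) w).1 w.2
  let act : MulAction A P :=
    { smul := fun a w => ⟨(a : H) * w * (a : H)⁻¹, hconj a w⟩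
      one_smul := fun w => Subtype.ext (by
        change ((1 : A) : H) * w * ((1 : A) : H)⁻¹ = w
        simp)
      mul_smul := fun a b w => Subtype.ext (by
        change ((a * b : A) : H) * w * ((a * b : A) : H)⁻¹ = (a : H) * ((b : H) * w * (b : H)⁻¹) * (a : H)⁻¹
        simp [mul_assoc]) }
  have h3 := A.isPGroup'.card_modEq_card_fixedPoints P
  have h4 : Nat.card (MulAction.fixedPoints A P) ≠ 1 := by
    intro h5
    rw [h5, hPc] at h3
    apply hmod
    have h6 : 2 ^ (Nat.card S).factorization 2 % q = 1 % q := h3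
    rw [h6]
    exact Nat.mod_eq_of_lt hq.one_lt
  -- the subgroup of fixed points
  let F : Subgroup H :=
    { carrier := {w | w ∈ P ∧ ∀ a : A, (a : H) * w * (a : H)⁻¹ = w}
      mul_mem' := by
        rintro x y ⟨hx1, hx2⟩ ⟨hy1, hy2⟩
        refine ⟨mul_mem hx1 hy1, fun a => ?_⟩
        calc (a : H) * (x * y) * (a : H)⁻¹ = ((a : H) * x * (a : H)⁻¹) * ((a : H) * y * (a : H)⁻¹) := by group
          _ = x * y := by rw [hx2, hy2]
      one_mem' := ⟨one_mem _, fun a => by group⟩
      inv_mem' := by
        rintro x ⟨hx1, hx2⟩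
        refine ⟨inv_mem hx1, fun a => ?_⟩
        calc (a : H) * x⁻¹ * (a : H)⁻¹ = ((a : H) * x * (a : H)⁻¹)⁻¹ := by group
          _ = x⁻¹ := by rw [hx2] }
  have hF : Nat.card (MulAction.fixedPoints A P) = Nat.card F := by
    refine Nat.card_congr
      { toFun := fun w => ⟨w.1.1, w.1.2, fun a => congrArg Subtype.val (w.2 a)⟩
        invFun := fun w => ⟨⟨w.1, w.2.1⟩, fun a => Subtype.ext (w.2.2 a)⟩
        left_inv := fun w => rfl
        right_inv := fun w => rfl }
  have hFP : F ≤ P := fun w hw => hw.1
  have hF2 : 2 ∣ Nat.card F := by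
    have h5 : Nat.card F ∣ 2 ^ (Nat.card S).factorization 2 := by
      rw [← hPc]
      exact card_dvd_of_le hFP
    obtain ⟨c, -, hc⟩ := (Nat.dvd_prime_pow Nat.prime_two).1 h5
    rw [hF, hc] at h4
    rw [hc]
    apply dvd_pow_self
    rintro rfl
    exact h4 (pow_zero 2)
  obtain ⟨t, ht⟩ := exists_prime_orderOf_dvd_card' (G := F) 2 hF2
  refine ⟨t, ?_, by rw [orderOf_coe, ht], ?_⟩
  · have h5 : (t : H) ∈ P := t.2.1
    rw [hP] at h5
    obtain ⟨s, -, hs⟩ := h5
    rw [← hs]
    exact s.2
  · have h5 : (A : Subgroup N).map N.subtype ≤ centralizer ({(t : H)} : Set H) := by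
      rintro _ ⟨a, ha, rfl⟩
      rw [mem_centralizer_singleton_iff]
      have h6 := t.2.2 ⟨a, ha⟩
      change (a : H) * (t : H) = t * a
      have h7 : (a : H) * t * (a : H)⁻¹ = t := h6
      calc (a : H) * t = ((a : H) * t * (a : H)⁻¹) * a := by group
        _ = t * a := by rw [h7]
    have h6 := card_dvd_of_le h5
    rw [card_map_of_injective N.subtype_injective, hAc] at h6
    have h7 : (Nat.card N).factorization q ≤ (Nat.card (centralizer ({(t : H)} : Set H))).factorization q :=
      (hq.pow_dvd_iff_le_factorization Nat.card_pos.ne').1 h6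
    have h8 : (Nat.card H).factorization q ≤ (Nat.card N).factorization q + (Nat.card S).factorization q := by
      have h9 := (Nat.factorization_le_iff_dvd Nat.card_pos.ne' (Nat.mul_ne_zero Nat.card_pos.ne' Nat.card_pos.ne')).2 h2 q
      rwa [Nat.factorization_mul Nat.card_pos.ne' Nat.card_pos.ne', Finsupp.add_apply] at h9
    omega

/-- **the involution** -/
theorem exists_invol (V : Subgroup H) [hV : V.Normal] (hodd : ¬ 2 ∣ Nat.card V) {x : H} (hxV : x ∉ V)
    (hc : ∀ v ∈ V, v * x = x * v) (S : Subgroup (H ⧸ V)) [hSn : S.Normal] (hSs : IsSimpleGroup S)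
    (hxS : QuotientGroup.mk' V x ∈ S) {q : ℕ} (hq : q.Prime)
    (hmod : 2 ^ (Nat.card S).factorization 2 % q ≠ 1) :
    ∃ t : H, orderOf t = 2 ∧ (Nat.card H).factorization q ≤
      (Nat.card (centralizer ({t} : Set H))).factorization q + (Nat.card S).factorization q := by
  have : Fact (Nat.Prime 2) := ⟨Nat.prime_two⟩
  -- the centralizer of `V` covers `S`
  have hCn : (centralizer (V : Set H)).Normal := inferInstance
  have hKn : ((centralizer (V : Set H)).map (QuotientGroup.mk' V)).Normal :=
    hCn.map _ (QuotientGroup.mk'_surjective V)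
  have hxC : x ∈ centralizer (V : Set H) := by
    rw [mem_centralizer_iff]
    intro v hv
    exact hc v hv
  have hle : S ≤ (centralizer (V : Set H)).map (QuotientGroup.mk' V) := by
    have h1 : (((centralizer (V : Set H)).map (QuotientGroup.mk' V)).subgroupOf S).Normal := inferInstance
    rcases hSs.eq_bot_or_eq_top_of_normal _ h1 with h2 | h2
    · exfalso
      have h3 : (⟨QuotientGroup.mk' V x, hxS⟩ : S) ∈
          ((centralizer (V : Set H)).map (QuotientGroup.mk' V)).subgroupOf S := by
        rw [mem_subgroupOf]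
        exact mem_map_of_mem _ hxC
      rw [h2, mem_bot] at h3
      apply hxV
      exact (QuotientGroup.eq_one_iff x).1 (congrArg Subtype.val h3)
    · exact subgroupOf_eq_top.1 h2
  obtain ⟨t', ht'S, ht', hfac⟩ := exists_fixed S hq hmod
  obtain ⟨c, hcC, hct⟩ := hle ht'S
  -- the lift
  have hoddV : Odd (Nat.card V) := Nat.not_even_iff_odd.1 fun h => hodd (even_iff_two_dvd.1 h)
  have ht'2 : t' ^ 2 = 1 := by rw [← ht', pow_orderOf_eq_one]
  have hc2 : c ^ 2 ∈ V := by
    have h1 : QuotientGroup.mk' V (c ^ 2) = 1 := by rw [map_pow, hct, ht'2]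
    exact (QuotientGroup.eq_one_iff _).1 h1
  set t : H := c ^ Nat.card V with ht
  have htt : t ^ 2 = 1 := by
    rw [ht, ← pow_mul, mul_comm, pow_mul]
    have h1 : (⟨c ^ 2, hc2⟩ : V) ^ Nat.card V = 1 := pow_card_eq_one'
    exact congrArg Subtype.val h1
  have htm : QuotientGroup.mk' V t = t' := by
    rw [ht, map_pow, hct]
    obtain ⟨m, hm⟩ := hoddV
    rw [hm, pow_succ, pow_mul, ht'2, one_pow, one_mul]
  have ht1 : t ≠ 1 := by
    intro h
    rw [h, map_one] at htm
    rw [← htm, orderOf_one] at ht'
    norm_num at ht'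
  have hto : orderOf t = 2 := orderOf_eq_prime htt ht1
  have htC : t ∈ centralizer (V : Set H) := by
    rw [ht]
    exact pow_mem hcC _
  refine ⟨t, hto, ?_⟩
  -- the centralizer
  have hD : (centralizer ({t'} : Set (H ⧸ V))).comap (QuotientGroup.mk' V) ≤ centralizer ({t} : Set H) := by
    intro h hh
    rw [mem_comap, mem_centralizer_singleton_iff, ← htm] at hh
    rw [mem_centralizer_singleton_iff]
    have h1 : QuotientGroup.mk' V (h * t * h⁻¹ * t⁻¹) = 1 := by
      rw [map_mul, map_mul, map_mul, hh, map_inv, map_inv]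
      group
    have h2 : h * t * h⁻¹ * t⁻¹ ∈ V := (QuotientGroup.eq_one_iff _).1 h1
    set v := h * t * h⁻¹ * t⁻¹ with hv
    have h3 : v * t = t * v := by
      have := mem_centralizer_iff.1 htC v h2
      exact this
    have h4 : h * t * h⁻¹ = v * t := by rw [hv]; group
    have h5 : (v * t) ^ 2 = 1 := by
      rw [← h4, conj_pow, htt]
      group
    have h6 : v ^ 2 = 1 := by
      rw [(show Commute v t from h3).mul_pow, htt, mul_one] at h5
      exact h5
    have h7 : orderOf (⟨v, h2⟩ : V) ∣ 2 := orderOf_dvd_of_pow_eq_one (Subtype.ext h6)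
    have h8 : (⟨v, h2⟩ : V) = 1 := by
      rcases (Nat.dvd_prime Nat.prime_two).1 h7 with h9 | h9
      · exact orderOf_eq_one_iff.1 h9
      · exfalso
        apply hodd
        rw [← h9]
        exact orderOf_dvd_natCard _
    have h9 : v = 1 := congrArg Subtype.val h8
    rw [h9, one_mul] at h4
    calc h * t = (h * t * h⁻¹) * h := by group
      _ = t * h := by rw [h4]
  have h1 := card_dvd_of_le hD
  rw [Lib.SolvableNormalP.card_comap_mk] at h1
  have h2 : (Nat.card (centralizer ({t'} : Set (H ⧸ V)))).factorization q + (Nat.card V).factorization q ≤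
      (Nat.card (centralizer ({t} : Set H))).factorization q := by
    have h3 := (Nat.factorization_le_iff_dvd (Nat.mul_ne_zero Nat.card_pos.ne' Nat.card_pos.ne') Nat.card_pos.ne').2 h1 q
    rwa [Nat.factorization_mul Nat.card_pos.ne' Nat.card_pos.ne', Finsupp.add_apply] at h3
  have h3 : (Nat.card H).factorization q = (Nat.card (H ⧸ V)).factorization q + (Nat.card V).factorization q := by
    rw [card_eq_card_quotient_mul_card_subgroup V, Nat.factorization_mul Nat.card_pos.ne' Nat.card_pos.ne',
      Finsupp.add_apply]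
  omega

end

end Cfsg.Agent.H547.PP
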